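import Cfsg.Agent.Lib.OffenderSL2.Group
import Cfsg.Agent.Lib.ZJFailure.Induction
import Cfsg.Agent.Lib.Fusion.Model.Main
import Cfsg.Agent.Lib.Fusion.Model.Local
import Cfsg.Agent.Lib.Fusion.Criterion
import Cfsg.Agent.Lib.Fusion.CenterJ

/-!
A central subgroup that is not weakly closed, while the normalizer system of the Thompson subgroup fixes it,
is moved transitively on a commutator by a cyclic group of automorphisms of order prime to `p`.
-/

set_option autoImplicit false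
set_option linter.unusedSectionVars false
set_option linter.style.haveILetI false
set_option maxHeartbeats 800000

universe u

namespace CfsgLib.OffenderSL2

open Cfsg Cfsg.FusionSystem

variable {Ω : Type u} [Group Ω] {S : Subgroup Ω} {F : FusionSystem S} {T : Subgroup Ω} [Finite S]

/-- A map that has `T` in its source exactly when it has it in its image, and then fixes it. -/
def Keeps (T : Subgroup Ω) {P : Subgroup Ω} (φ : P →* Ω) : Prop :=
  (T ≤ P ↔ T ≤ φ.range) ∧ (T ≤ P → (T.subgroupOf P).map φ = T)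

theorem card_range {P : Subgroup Ω} {φ : P →* Ω} (hφ : φ ∈ F.Hom P) : Nat.card φ.range = Nat.card P :=
  (Nat.card_congr (MonoidHom.ofInjective (F.injective_of_mem hφ)).toEquiv).symm

theorem map_subgroupOf_eq (hTS : T ≤ S) {P : Subgroup Ω} (hTP : T ≤ P) {φ : P →* Ω} (hφ : φ ∈ F.Hom P)
    (h : ∀ t (ht : t ∈ T), φ ⟨t, hTP ht⟩ ∈ T) : (T.subgroupOf P).map φ = T := by
  haveI := finite_of_le hTS
  refine Subgroup.eq_of_le_of_card_ge ?_ ?_
  · rintro _ ⟨x, hx, rfl⟩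
    exact h (x : Ω) hx
  · rw [Subgroup.card_map_of_injective (F.injective_of_mem hφ),
      Nat.card_congr (Subgroup.subgroupOfEquivOfLe hTP).toEquiv]

/-- The subsystem of the maps that keep `T` or have source of order less than `m`. -/
def keepSystem (F : FusionSystem S) (T : Subgroup Ω) (hTS : T ≤ S)
    (hTc : ∀ s ∈ S, ∀ t ∈ T, s * t = t * s) (m : ℕ) : FusionSystem S where
  Hom P := {φ | φ ∈ F.Hom P ∧ (Nat.card P < m ∨ Keeps T φ)}
  le_of_mem h := F.le_of_mem h.1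
  injective_of_mem h := F.injective_of_mem h.1
  conj_mem := by
    intro P g hP hg
    have hfix : ∀ t ∈ T, g * t * g⁻¹ = t := fun t ht => by rw [hTc g hg t ht, mul_inv_cancel_right]
    refine ⟨F.conj_mem hP hg, Or.inr ⟨⟨fun h t ht => ⟨⟨t, h ht⟩, hfix t ht⟩, fun h t ht => ?_⟩, fun h =>
      map_subgroupOf_eq hTS h (F.conj_mem hP hg) fun t ht => ?_⟩⟩
    · obtain ⟨x, hx⟩ := h ht
      have hx' : g * (x : Ω) * g⁻¹ = g * t * g⁻¹ := by rw [hfix t ht]; exact hx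
      rw [← mul_left_cancel (mul_right_cancel hx')]
      exact x.2
    · show g * t * g⁻¹ ∈ T
      rw [hfix t ht]; exact ht
  comp_mem := by
    rintro P Q φ ψ ⟨hφ, h1⟩ ⟨hψ, h2⟩ h
    refine ⟨F.comp_mem hφ hψ h, ?_⟩
    rcases h1 with h1 | h1
    · exact Or.inl h1
    rcases h2 with h2 | h2
    · refine Or.inl (lt_of_le_of_lt ?_ h2)
      have : Finite Q := finite_of_le (F.source_le hψ)
      exact Nat.card_le_card_of_injective (φ.codRestrict Q h)
        fun x y e => F.injective_of_mem hφ (congrArg Subtype.val e)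
    have hQ : φ.range ≤ Q := by rintro _ ⟨x, rfl⟩; exact h x
    have hkeep : ∀ (hTP : T ≤ P) t (ht : t ∈ T), ψ ⟨φ ⟨t, hTP ht⟩, h _⟩ ∈ T := fun hTP t ht => by
      have h3 : φ ⟨t, hTP ht⟩ ∈ T := (h1.2 hTP).le ⟨⟨t, hTP ht⟩, ht, rfl⟩
      exact (h2.2 ((h1.1.1 hTP).trans hQ)).le ⟨⟨_, h _⟩, h3, rfl⟩
    refine Or.inr ⟨⟨fun hTP => ?_, fun hr => h1.1.2 fun t ht => ?_⟩, fun hTP =>
      map_subgroupOf_eq hTS hTP (F.comp_mem hφ hψ h) (hkeep hTP)⟩
    · refine le_of_eq_of_le (map_subgroupOf_eq hTS hTP (F.comp_mem hφ hψ h) (hkeep hTP)).symm ?_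
      rintro _ ⟨x, -, rfl⟩
      exact ⟨x, rfl⟩
    · have hTQ : T ≤ Q := h2.1.2 fun t ht => by
        obtain ⟨x, hx⟩ := hr ht
        exact ⟨_, hx⟩
      obtain ⟨y, hy, hyt⟩ := (h2.2 hTQ).ge (show ψ ⟨t, hTQ ht⟩ ∈ T from (h2.2 hTQ).le ⟨⟨t, hTQ ht⟩, ht, rfl⟩)
      obtain ⟨x, hx⟩ := hr (show ψ ⟨t, hTQ ht⟩ ∈ T from (h2.2 hTQ).le ⟨⟨t, hTQ ht⟩, ht, rfl⟩)
      exact ⟨x, congrArg Subtype.val (F.injective_of_mem hψ hx)⟩
  inv_mem := by
    rintro P φ ⟨hφ, h1⟩
    obtain ⟨ψ, hψ, hψe⟩ := F.inv_mem hφ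
    refine ⟨ψ, ⟨hψ, ?_⟩, hψe⟩
    rcases h1 with h1 | h1
    · exact Or.inl (by rw [card_range hφ]; exact h1)
    have hr : ψ.range = P := by
      ext y
      constructor
      · rintro ⟨⟨_, x, rfl⟩, rfl⟩
        rw [hψe]; exact x.2
      · exact fun hy => ⟨_, hψe ⟨y, hy⟩⟩
    refine Or.inr ⟨by rw [hr]; exact h1.1.symm, fun hT => map_subgroupOf_eq hTS hT hψ fun t ht => ?_⟩
    obtain ⟨x, hx, hxt⟩ := (h1.2 (h1.1.2 hT)).ge ht
    subst hxt
    rw [hψe]; exact hx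

variable {p : ℕ} [hp : Fact p.Prime]

/-- Some automorphism of `P` moves `T`. -/
def Bad (F : FusionSystem S) (T P : Subgroup Ω) : Prop :=
  ∃ (φ : P →* Ω) (_ : φ ∈ F.Hom P) (_ : φ.range = P) (hTP : T ≤ P) (t : Ω) (ht : t ∈ T), φ ⟨t, hTP ht⟩ ∉ T

theorem Bad.le {P : Subgroup Ω} (h : Bad F T P) : P ≤ S := let ⟨_, hφ, _⟩ := h; F.source_le hφ

/-- If the largest normaliser of a bad subgroup has order `m`, maps with source of order at least `m` keep `T`. -/
theorem keeps_of_large (hF : F.IsSaturated p) (hS : IsPGroup p S) (hTS : T ≤ S)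
    (hTc : ∀ s ∈ S, ∀ t ∈ T, s * t = t * s) (hS0 : ¬ Bad F T S) {m : ℕ}
    (hm : ∀ P, Bad F T P → Nat.card (normalizerIn S P) ≤ m) {P : Subgroup Ω} {φ : P →* Ω} (hφ : φ ∈ F.Hom P)
    (hP : m ≤ Nat.card P) : Keeps T φ := by
  suffices h : F ≤ keepSystem F T hTS hTc m by
    exact (h P hφ).2.resolve_left (not_lt.mpr hP)
  refine hF.le_of_autGroup_le hS _ fun P hP α hα => ?_
  have hPS : P ≤ S := by rcases hP with rfl | h; exacts [le_rfl, h.1.1]
  obtain ⟨φ, hφ, hr, hφe⟩ := F.exists_map_of_mem_autGroup hPS hα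
  refine (keepSystem F T hTS hTc m).mem_autGroup_of_map (φ := φ) ⟨hφ, ?_⟩ fun x => (hφe x).symm
  by_contra h
  rw [not_or, not_lt] at h
  obtain ⟨hcard, hk⟩ := h
  refine hk ⟨by rw [hr], fun hTP => map_subgroupOf_eq hTS hTP hφ fun t ht => ?_⟩
  by_contra hmov
  have hbad : Bad F T P := ⟨φ, hφ, hr, hTP, t, ht, hmov⟩
  rcases eq_or_lt_of_le hPS with rfl | hlt
  · exact hS0 hbad
  · haveI := finite_normalizerIn (S := S) (P := P)
    exact absurd ((card_lt_of_lt (lt_normalizerIn hS hlt)).trans_le (hm P hbad)) (not_lt.mpr hcard)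

/-- A bad subgroup with normaliser of largest order is fully normalised. -/
theorem isFullyNormalized_of_max (hF : F.IsSaturated p) (hS : IsPGroup p S) (hTS : T ≤ S)
    (hTc : ∀ s ∈ S, ∀ t ∈ T, s * t = t * s) (hS0 : ¬ Bad F T S) {P : Subgroup Ω} (hP : Bad F T P)
    (hm : ∀ R, Bad F T R → Nat.card (normalizerIn S R) ≤ Nat.card (normalizerIn S P)) :
    F.IsFullyNormalized P := by
  have hPS := hP.le
  obtain ⟨P', hPP', hn⟩ := F.exists_isFullyNormalized hPS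
  obtain ⟨ψ, hψ, hr, Ψ, hΨ, -, he⟩ := hF.exists_map_to_fullyNormalized hS hn hPP'
  have hk := keeps_of_large hF hS hTS hTc hS0 hm hΨ le_rfl
  obtain ⟨φ, hφ, hφr, hTP, t, ht, hmov⟩ := hP
  have hkeep : ∀ s (hs : s ∈ T), ψ ⟨s, hTP hs⟩ ∈ T := fun s hs => by
    rw [← he ⟨s, hTP hs⟩ (le_normalizerIn hPS (hTP hs))]
    exact (hk.2 (hTP.trans (le_normalizerIn hPS))).le ⟨⟨s, _⟩, hs, rfl⟩
  have hmap := map_subgroupOf_eq hTS hTP hψ hkeep
  have hTP' : T ≤ P' := by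
    rw [← hr]
    refine le_of_eq_of_le hmap.symm ?_
    rintro _ ⟨x, -, rfl⟩
    exact ⟨x, rfl⟩
  -- carry the automorphism over
  obtain ⟨ι, hι, hιr, hιl, hιl'⟩ := F.exists_inv hψ hr
  obtain ⟨a, ha, hae⟩ := F.exists_comp hι hφ (fun y => hιr.le ⟨y, rfl⟩)
  obtain ⟨b, hb, hbe⟩ := F.exists_comp ha hψ (fun y => by rw [hae]; exact hφr.le ⟨_, rfl⟩)
  have hbr : b.range = P' := by
    haveI := finite_of_le hn.1
    refine Subgroup.eq_of_le_of_card_ge ?_ (card_range hb).ge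
    rintro _ ⟨y, rfl⟩
    rw [hbe]; exact hr.le ⟨_, rfl⟩
  have hbad : Bad F T P' := by
    refine ⟨b, hb, hbr, hTP', ψ ⟨t, hTP ht⟩, hkeep t ht, fun hin => hmov ?_⟩
    rw [hbe] at hin
    obtain ⟨x, hx, hxe⟩ := hmap.ge hin
    have e1 : (x : Ω) = φ ⟨t, hTP ht⟩ := by
      rw [congrArg Subtype.val (F.injective_of_mem hψ hxe)]
      show a _ = _
      rw [hae]
      exact congrArg φ (Subtype.ext (hιl ⟨t, hTP ht⟩ _))
    rw [← e1]; exact hx
  exact ⟨hPS, fun Q hQ => (hn.2 Q (hPP'.symm.trans hQ)).trans (hm P' hbad)⟩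

/-- The automorphism group and the element in a model. -/
theorem exists_aut {L : Type u} [Group L] [Finite L] {SL : Subgroup Ω} {E : FusionSystem SL} (hEF : E.IsSubsystemOf F)
    {ι : SL →* L} (hre : E.IsRealizedBy ι) (hTS : T ≤ SL) {n : L}
    (hn : Good p ((T.subgroupOf SL).map ι) n) :
    ∃ X : Subgroup (MulAut ↥T), X ≤ F.autGroup T ∧ X ≠ ⊥ ∧ IsCyclic ↥X ∧ (Nat.card ↥X).Coprime p ∧
      ∀ a b : ↥T, a ∈ Subgroup.closure {y : ↥T | ∃ ψ ∈ X, ∃ t : ↥T, y = ψ t * t⁻¹} →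
        b ∈ Subgroup.closure {y : ↥T | ∃ ψ ∈ X, ∃ t : ↥T, y = ψ t * t⁻¹} →
        a ≠ 1 → b ≠ 1 → ∃ ψ ∈ X, ψ a = b := by
  obtain ⟨hinj, hiff⟩ := hre
  let j : ↥T →* L := ι.comp (Subgroup.inclusion hTS)
  have hjinj : Function.Injective j := hinj.comp (Subgroup.inclusion_injective _)
  have hjT : ∀ t, j t ∈ (T.subgroupOf SL).map ι := fun t => ⟨⟨t, hTS t.2⟩, t.2, rfl⟩
  have hTj : ∀ y ∈ (T.subgroupOf SL).map ι, ∃ t, j t = y := by
    rintro _ ⟨x, hx, rfl⟩; exact ⟨⟨x, hx⟩, rfl⟩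
  have hact : ∀ t : ↥T, ∃ t' : ↥T, j t' = n * j t * n⁻¹ := fun t =>
    hTj _ ((Subgroup.mem_normalizer_iff.1 hn.norm _).1 (hjT t))
  choose f hf using hact
  let φ : ↥T →* Ω := MonoidHom.mk' (fun t => (f t : Ω)) fun s t => by
    show (f (s * t) : Ω) = ((f s * f t : ↥T) : Ω)
    exact congrArg Subtype.val (hjinj (by simp only [map_mul, hf]; group))
  have hφE : φ ∈ E.Hom T := (hiff T hTS φ fun t => hTS (f t).2).mpr ⟨n, fun t => hf t⟩
  have hφ : φ ∈ F.Hom T := hEF T hφE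
  have hr : φ.range = T := by
    haveI := finite_of_le (F.source_le hφ)
    refine Subgroup.eq_of_le_of_card_ge ?_ (card_range hφ).ge
    rintro _ ⟨t, rfl⟩
    exact (f t).2
  set α : MulAut ↥T := F.isoOf hφ hr with hα
  have hα1 : ∀ t, j (α t) = n * j t * n⁻¹ := fun t => by
    rw [← hf t]
    exact congrArg j (Subtype.ext (F.coe_isoOf hφ hr t))
  have hαi : ∀ (i : ℕ) t, j ((α ^ i) t) = n ^ i * j t * (n ^ i)⁻¹ := by
    intro i
    induction i with
    | zero => intro t; simp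
    | succ i ih => intro t; rw [pow_succ, MulAut.mul_apply, ih, hα1, pow_succ]; group
  have hαo : α ^ orderOf n = 1 := MulEquiv.ext fun t => hjinj (by rw [hαi, pow_orderOf_eq_one]; simp)
  have hfin : IsOfFinOrder α := isOfFinOrder_iff_pow_eq_one.mpr ⟨_, orderOf_pos n, hαo⟩
  have hmem : ∀ ψ ∈ Subgroup.zpowers α, ∃ i : ℕ, α ^ i = ψ := fun ψ hψ =>
    Submonoid.mem_powers_iff _ _ |>.1 (hfin.mem_powers_iff_mem_zpowers.mpr hψ)
  refine ⟨Subgroup.zpowers α, Subgroup.zpowers_le.2 (F.isoOf_mem_autGroup hφ hr), fun h => ?_, inferInstance,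
    ?_, fun a b ha hb ha1 hb1 => ?_⟩
  · obtain ⟨t, ht, hmov⟩ := hn.moves
    obtain ⟨s, rfl⟩ := hTj t ht
    refine hmov ?_
    rw [← hα1, Subgroup.zpowers_eq_bot.mp h]; rfl
  · rw [Nat.card_zpowers]
    exact hn.cop.coprime_dvd_left (orderOf_dvd_of_pow_eq_one hαo)
  have hclo : ∀ c ∈ Subgroup.closure {y : ↥T | ∃ ψ ∈ Subgroup.zpowers α, ∃ t : ↥T, y = ψ t * t⁻¹},
      j c ∈ comSub ((T.subgroupOf SL).map ι) n := fun c hc => by
    refine (Subgroup.closure_le ((comSub ((T.subgroupOf SL).map ι) n).comap j)).2 ?_ hc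
    rintro _ ⟨ψ, hψ, t, rfl⟩
    obtain ⟨i, rfl⟩ := hmem ψ hψ
    show j ((α ^ i) t * t⁻¹) ∈ comSub _ n
    rw [map_mul, map_inv, hαi]
    exact Subgroup.subset_closure ⟨i, j t, hjT t, rfl⟩
  obtain ⟨i, hi⟩ := hn.trans _ (hclo a ha) _ (hclo b hb) (fun e => ha1 (hjinj (e.trans (map_one j).symm)))
    (fun e => hb1 (hjinj (e.trans (map_one j).symm)))
  exact ⟨α ^ i, pow_mem (Subgroup.mem_zpowers α) i, hjinj (by rw [hαi]; exact hi)⟩

theorem mem_thompsonJ_of_commute {G : Type u} [Group G] [Finite G] {Q : Subgroup G} {z : G} (hz : z ∈ Q)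
    (h : ∀ t ∈ Q, t * z = z * t) : z ∈ ZJ.thompsonJ 0 Q :=
  (ZJFailure.mem_zj_of_commute hz h).1

theorem finite_sub {P : Subgroup Ω} (hP : P ≤ S) : Finite ↥P := finite_of_le hP

/-- **The fusion theorem.** -/
theorem weaklyClosed_or_transitive (hp2 : p ≠ 2) (hS : IsPGroup p S) (hF : F.IsSaturated p)
    (hT : T ≤ S ⊓ Subgroup.centralizer (S : Set Ω))
    (hJT : ∀ NJ : FusionSystem (normalizerIn S (thompsonSubgroupAOf S)),
      F.IsNormalizerSystem (thompsonSubgroupAOf S) NJ →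
      ∀ NT : FusionSystem (normalizerIn S T), F.IsNormalizerSystem T NT → NJ.IsSubsystemOf NT) :
    F.WeaklyClosed T ∨ ∃ X : Subgroup (MulAut ↥T), X ≤ F.autGroup T ∧ X ≠ ⊥ ∧ IsCyclic ↥X ∧
      (Nat.card ↥X).Coprime p ∧
      ∀ a b : ↥T, a ∈ Subgroup.closure {y : ↥T | ∃ ψ ∈ X, ∃ t : ↥T, y = ψ t * t⁻¹} →
        b ∈ Subgroup.closure {y : ↥T | ∃ ψ ∈ X, ∃ t : ↥T, y = ψ t * t⁻¹} →
        a ≠ 1 → b ≠ 1 → ∃ ψ ∈ X, ψ a = b := by
  classical
  have hTS : T ≤ S := hT.trans inf_le_left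
  have hTc : ∀ s ∈ S, ∀ t ∈ T, s * t = t * s := fun s hs t ht => Subgroup.mem_centralizer_iff.1 (hT ht).2 s hs
  set J := thompsonSubgroupAOf S with hJdef
  have hJS : J ≤ S := Subgroup.map_subtype_le _
  have hTJ : T ≤ J := fun t ht => ⟨⟨t, hTS ht⟩, by
    rw [thompsonSubgroupA_eq]
    exact mem_thompsonJ_of_commute (Subgroup.mem_top _) fun s _ => Subtype.ext (hTc s s.2 t ht), rfl⟩
  have hJbad : ¬ Bad F T J := by
    rintro ⟨φ, hφ, hr, hTP, t, ht, hmov⟩
    have hφN : φ ∈ (F.normalizerSystem J hJS).Hom J :=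
      ⟨hφ, le_normalizerIn hJS, fun x => le_normalizerIn hJS (hr.le ⟨x, rfl⟩),
        φ.comp (Subgroup.inclusion (sup_le le_rfl le_rfl)), F.restrict_mem hφ _, fun x => rfl, by
          ext y
          constructor
          · rintro ⟨x, -, rfl⟩
            exact hr.le ⟨_, rfl⟩
          · intro hy
            obtain ⟨x, rfl⟩ := hr.ge hy
            exact ⟨⟨x, Subgroup.mem_sup_left x.2⟩, x.2, rfl⟩⟩
    obtain ⟨-, -, -, ψ, -, hψe, hψT⟩ := hJT _ (F.normalizerSystem_isNormalizerSystem J hJS) _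
      (F.normalizerSystem_isNormalizerSystem T hTS) J hφN
    refine hmov ?_
    rw [← hψe ⟨t, hTP ht⟩]
    exact hψT.le ⟨⟨t, Subgroup.mem_sup_right ht⟩, ht, rfl⟩
  have hJfix : ∀ (φ : S →* Ω), φ ∈ F.Hom S → ∀ x : S, (x : Ω) ∈ J → φ x ∈ J := by
    intro φ hφ x hx
    have hr : φ.range = S := Subgroup.eq_of_le_of_card_ge (F.range_le hφ) (card_range hφ).ge
    have h1 : (thompsonSubgroupA S).map (F.isoOf hφ hr).toMonoidHom = thompsonSubgroupA S :=
      jFunctor_map S S (F.isoOf hφ hr)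
    obtain ⟨y, hy, hyx⟩ := hx
    obtain rfl : y = x := Subtype.ext hyx
    exact ⟨_, h1.le ⟨y, hy, rfl⟩, F.coe_isoOf hφ hr y⟩
  have hS0 : ¬ Bad F T S := by
    rintro ⟨φ, hφ, hr, hTP, t, ht, hmov⟩
    refine hJbad ⟨φ.comp (Subgroup.inclusion hJS), F.restrict_mem hφ hJS, ?_, hTJ, t, ht, hmov⟩
    haveI := finite_sub (S := S) hJS
    refine Subgroup.eq_of_le_of_card_ge ?_ (card_range (F.restrict_mem hφ hJS)).ge
    rintro _ ⟨x, rfl⟩
    exact hJfix φ hφ _ x.2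
  by_cases hex : ∃ P, Bad F T P
  swap
  · left
    refine ⟨hTS, fun φ hφ => ?_⟩
    have hk := keeps_of_large hF hS hTS hTc hS0 (m := 0) (fun P hP => absurd ⟨P, hP⟩ hex) hφ (Nat.zero_le _)
    have h1 := hk.2 le_rfl
    rwa [Subgroup.subgroupOf_self, ← MonoidHom.range_eq_map] at h1
  right
  obtain ⟨U, hU, hmax⟩ := Set.exists_max_image {P | Bad F T P} (fun P => Nat.card (normalizerIn S P))
    ((finite_setOf_le S).subset fun P hP => hP.le) hex
  have hUn : F.IsFullyNormalized U := isFullyNormalized_of_max hF hS hTS hTc hS0 hU hmax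
  have hUS := hU.le
  set E := U ⊔ centralizerIn S U with hEdef
  have hES : E ≤ S := sup_le hUS centralizerIn_le
  have hNUE : normalizerIn S U ≤ normalizerIn S E := fun g hg => by
    refine ⟨hg.1, ?_⟩
    have hC : g ∈ Subgroup.normalizer (centralizerIn S U : Set Ω) := by
      refine Subgroup.mem_normalizer_iff.mpr fun x => ?_
      have hS' : x ∈ S ↔ g * x * g⁻¹ ∈ S := ⟨fun h => S.mul_mem (S.mul_mem hg.1 h) (S.inv_mem hg.1), fun h => by
        have := S.mul_mem (S.mul_mem (S.inv_mem hg.1) h) hg.1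
        simpa [mul_assoc] using this⟩
      refine and_congr hS' ⟨fun h => Subgroup.mem_centralizer_iff.2 fun u hu => ?_,
        fun h => Subgroup.mem_centralizer_iff.2 fun u hu => ?_⟩
      · have := Subgroup.mem_centralizer_iff.1 h (g⁻¹ * u * g) ((Subgroup.mem_normalizer_iff''.1 hg.2 u).1 hu)
        calc u * (g * x * g⁻¹) = g * ((g⁻¹ * u * g) * x) * g⁻¹ := by group
          _ = g * (x * (g⁻¹ * u * g)) * g⁻¹ := by rw [this]
          _ = _ := by group
      · have := Subgroup.mem_centralizer_iff.1 h (g * u * g⁻¹) ((Subgroup.mem_normalizer_iff.1 hg.2 u).1 hu)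
        calc u * x = g⁻¹ * ((g * u * g⁻¹) * (g * x * g⁻¹)) * g := by group
          _ = g⁻¹ * ((g * x * g⁻¹) * (g * u * g⁻¹)) * g := by rw [this]
          _ = _ := by group
    refine Subgroup.mem_normalizer_iff.mpr fun x => ?_
    have hmap : E.map (MulAut.conj g).toMonoidHom = E := by
      rw [hEdef, Subgroup.map_sup, Local.map_conj_eq_of_mem_normalizer hg.2, Local.map_conj_eq_of_mem_normalizer hC]
    constructor
    · exact fun hx => hmap.le ⟨x, hx, rfl⟩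
    · intro hx
      obtain ⟨y, hy, e⟩ := hmap.ge hx
      rwa [← (MulAut.conj g).injective e]
  haveI := finite_sub (S := S) hES
  haveI := finite_normalizerIn (S := S) (P := E)
  -- the automorphism extended to `E`
  have hrec := hF.isReceptive_of_isFullyNormalized hS hUn
  obtain ⟨φ, hφ, hr, hTU, t₀, ht₀, hmov⟩ := id hU
  obtain ⟨ψ, hψ, hψe⟩ := hrec.2 U φ hφ hr
  have hEext : E ≤ extender S U φ :=
    sup_le (le_extender hUS (F.apply_mem hφ)) (centralizerIn_le_extender (F.apply_mem hφ))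
  set φE := ψ.comp (Subgroup.inclusion hEext) with hφEdef
  have hφE : φE ∈ F.Hom E := F.restrict_mem hψ hEext
  have hφEe : ∀ x : U, φE ⟨x, Subgroup.mem_sup_left x.2⟩ = φ x := fun x => hψe x x.2 _
  have hrE : φE.range = E := by
    refine Subgroup.eq_of_le_of_card_ge ?_ (card_range hφE).ge
    have hle : E.subgroupOf E ≤ (E.comap φE) := by
      refine le_of_eq_of_le
        (Subgroup.subgroupOf_sup (le_sup_left : U ≤ E) (le_sup_right : centralizerIn S U ≤ E))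
        (sup_le (fun x hx => ?_) (fun x hx => ?_))
      · show φE x ∈ E
        rw [show φE x = φ ⟨x, hx⟩ from hφEe ⟨x, hx⟩]
        exact Subgroup.mem_sup_left (hr.le ⟨_, rfl⟩)
      · refine Subgroup.mem_sup_right ⟨F.apply_mem hφE _, ?_⟩
        exact apply_mem_centralizer (P := U) (φ := φ) le_sup_left hφEe hr x hx.2
    rintro _ ⟨x, rfl⟩
    exact hle (show x ∈ E.subgroupOf E from x.2)
  have hTE : T ≤ E := hTU.trans le_sup_left
  have hmovE : φE ⟨t₀, hTE ht₀⟩ ∉ T := by rw [hφEe ⟨t₀, hTU ht₀⟩]; exact hmov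
  have hEbad : Bad F T E := ⟨φE, hφE, hrE, hTE, t₀, ht₀, hmovE⟩
  have hmaxE : ∀ R, Bad F T R → Nat.card (normalizerIn S R) ≤ Nat.card (normalizerIn S E) := fun R hR =>
    (hmax R hR).trans (Subgroup.card_le_of_le hNUE)
  have hEn : F.IsFullyNormalized E := isFullyNormalized_of_max hF hS hTS hTc hS0 hEbad hmaxE
  have hEc : F.IsCentric E := IsFullyCentralized.isCentric (hF.isFullyCentralized_of_isFullyNormalized hS hEn)
    fun x hx => Subgroup.mem_sup_right ⟨hx.1, Subgroup.centralizer_le (fun y hy => Subgroup.mem_sup_left hy) hx.2⟩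
  -- the model
  set SL := normalizerIn S E with hSLdef
  have hSLS : SL ≤ S := normalizerIn_le
  set NE := F.normalizerSystem E hES
  have hNE := F.normalizerSystem_isNormalizerSystem E hES
  obtain ⟨L, iL, ι, hmodel⟩ := (hF.normalizer_setup hS hEn hEc hNE).exists_isModel
  have hEnormal := hmodel.normal_map (hNE.isNormal hES)
  obtain ⟨hfin, hre, ⟨TS, hTSe⟩, -⟩ := hmodel
  haveI := hfin
  have hESL : E ≤ SL := le_normalizerIn hES
  have hTSL : T ≤ SL := hTE.trans hESL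
  set T' := (T.subgroupOf SL).map ι with hT'
  have hT'range : T' ≤ (TS : Subgroup L) := hTSe ▸ Subgroup.map_le_range ι _
  have hT'c : ∀ s ∈ (TS : Subgroup L), ∀ t ∈ T', s * t = t * s := by
    rw [hTSe]
    rintro _ ⟨s, rfl⟩ _ ⟨t, ht, rfl⟩
    rw [← map_mul, ← map_mul]
    exact congrArg ι (Subtype.ext (hTc _ (hSLS s.2) _ ht))
  have hT'Q : T' ≤ pCore p L := by
    refine le_trans (Subgroup.map_mono (show T.subgroupOf SL ≤ E.subgroupOf SL from fun x hx => hTE hx)) ?_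
    haveI := hEnormal
    exact le_pCore (((hS.to_le hSLS).to_subgroup _).map ι)
  have hT'n : ¬ T'.Normal := fun hn => by
    have hφN : φE ∈ NE.Hom E :=
      ⟨hφE, hESL, fun x => hESL (hrE.le ⟨x, rfl⟩), φE.comp (Subgroup.inclusion (sup_le le_rfl le_rfl)),
        F.restrict_mem hφE _, fun x => rfl, by
          ext y
          constructor
          · rintro ⟨x, -, rfl⟩
            exact hrE.le ⟨_, rfl⟩
          · intro hy
            obtain ⟨x, rfl⟩ := hrE.ge hy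
            exact ⟨⟨x, Subgroup.mem_sup_left x.2⟩, x.2, rfl⟩⟩
    obtain ⟨g, hg⟩ := (hre.2 E hESL φE fun x => hESL (hrE.le ⟨x, rfl⟩)).mp hφN
    obtain ⟨s, hs, hse⟩ : ι ⟨φE ⟨t₀, hTE ht₀⟩, hESL (hrE.le ⟨_, rfl⟩)⟩ ∈ T' := by
      rw [hg ⟨t₀, hTE ht₀⟩]
      exact hn.conj_mem _ ⟨⟨t₀, hTSL ht₀⟩, ht₀, rfl⟩ g
    refine hmovE ?_
    have := congrArg Subtype.val (hre.1 hse)
    simp only at this
    rw [← this]; exact hs
  -- the normalizer of the Thompson subgroup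
  set JL : Subgroup SL := ZJ.thompsonJ 0 ⊤ with hJL
  set U₁ : Subgroup Ω := JL.map SL.subtype with hU₁
  have hTU₁ : T ≤ U₁ := fun t ht => ⟨⟨t, hTSL ht⟩,
    mem_thompsonJ_of_commute (Subgroup.mem_top _) fun s _ => Subtype.ext (hTc s (hSLS s.2) t ht), rfl⟩
  have hU₁SL : U₁ ≤ SL := Subgroup.map_subtype_le _
  have hU₁J : ZJ.thompsonJ 0 SL = U₁ := by
    rw [hU₁, hJL, ← ZJ.thompsonJ_map 0 SL.subtype_injective, ← MonoidHom.range_eq_map, Subgroup.range_subtype]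
  have hU₁bad : ¬ Bad F T U₁ := by
    intro hb
    rcases eq_or_lt_of_le hSLS with he | hlt
    · refine hJbad ?_
      rwa [show U₁ = J by rw [← hU₁J, hJdef, ← ZJ.thompsonJ_zero_eq S]; exact congrArg (ZJ.thompsonJ 0) he] at hb
    · haveI := finite_normalizerIn (S := S) (P := U₁)
      have hle : normalizerIn S SL ≤ normalizerIn S U₁ := fun g hg => by
        refine ⟨hg.1, Local.mem_normalizer_of_map_conj_eq ?_⟩
        rw [← hU₁J, ← ZJ.thompsonJ_map_of_finite _ _ ((MulAut.conj g).injective.injOn),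
          Local.map_conj_eq_of_mem_normalizer hg.2]
      have h1 := hmaxE U₁ hb
      haveI := finite_normalizerIn (S := S) (P := SL)
      exact absurd ((card_lt_of_lt (lt_normalizerIn hS hlt)).trans_le ((Subgroup.card_le_of_le hle).trans h1))
        (lt_irrefl _)
  have hJn : Subgroup.normalizer (ZJ.thompsonJ 0 (TS : Subgroup L) : Set L) ≤ Subgroup.normalizer (T' : Set L) := by
    intro n hn
    have e : ZJ.thompsonJ 0 (TS : Subgroup L) = JL.map ι := by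
      rw [hTSe, MonoidHom.range_eq_map, ZJ.thompsonJ_map 0 hre.1]
    rw [e] at hn
    refine ZJFailure.mem_normalizer_of_forall ?_
    have hact : ∀ x : U₁, ∃ y : U₁, ι ⟨y, hU₁SL y.2⟩ = n * ι ⟨x, hU₁SL x.2⟩ * n⁻¹ := fun x => by
      obtain ⟨x', hx', hxe⟩ := x.2
      obtain ⟨y', hy', hye⟩ := (Subgroup.mem_normalizer_iff.1 hn _).1 ⟨x', hx', rfl⟩
      exact ⟨⟨y', y', hy', rfl⟩, by rw [← show x' = ⟨x, hU₁SL x.2⟩ from Subtype.ext hxe, ← hye]⟩
    choose f hf using hact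
    let χ : U₁ →* Ω := MonoidHom.mk' (fun x => (f x : Ω)) fun a b => by
      have h1 : ι ⟨f (a * b), hU₁SL (f (a * b)).2⟩ = ι (⟨f a, hU₁SL (f a).2⟩ * ⟨f b, hU₁SL (f b).2⟩) := by
        rw [map_mul, hf, hf, hf, show (⟨((a * b : U₁) : Ω), hU₁SL (a * b).2⟩ : SL) =
          ⟨a, hU₁SL a.2⟩ * ⟨b, hU₁SL b.2⟩ from rfl, map_mul]
        group
      exact congrArg Subtype.val (hre.1 h1)
    have hχ : χ ∈ F.Hom U₁ := ((hre.2 U₁ hU₁SL χ fun x => hU₁SL (f x).2).mpr ⟨n, fun x => hf x⟩).1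
    have hχr : χ.range = U₁ := by
      haveI := finite_sub (S := S) (hU₁SL.trans hSLS)
      refine Subgroup.eq_of_le_of_card_ge ?_ (card_range hχ).ge
      rintro _ ⟨x, rfl⟩
      exact (f x).2
    rintro _ ⟨x, hx, rfl⟩
    refine ⟨⟨f ⟨x, hTU₁ hx⟩, hU₁SL (f ⟨x, hTU₁ hx⟩).2⟩, ?_, hf _⟩
    by_contra hc
    exact hU₁bad ⟨χ, hχ, hχr, hTU₁, x, hx, hc⟩
  obtain ⟨n, hn⟩ := exists_good_of_not_normal hp2 TS hT'range hT'c hT'Q hT'n hJn
  exact exists_aut (E := NE) (fun P φ h => h.1) hre hTSL hn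

end CfsgLib.OffenderSL2
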