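import Cfsg.Agent.Lib.OffenderSL2.Torus
import Cfsg.Agent.Lib.ZJFailure.Pair
import Cfsg.Agent.Lib.ZJ.Theorem

/-!
A central subgroup of a Sylow subgroup inside the `p`-core that is normalised by `N(J(S))` but not normal
is moved by an element of order prime to `p` acting transitively on its commutator.
-/

set_option autoImplicit false
set_option linter.unusedSectionVars false
set_option linter.unusedVariables false
set_option linter.style.haveILetI false
set_option maxHeartbeats 800000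

namespace CfsgLib.OffenderSL2

open Cfsg CfsgLib CfsgLib.StrongFusion
open scoped Pointwise commutatorElement

universe u

variable {G : Type u} [Group G] [Finite G] {p : ℕ} [hp : Fact p.Prime]

theorem conj_mem_cm_iff {g x : G} {A : Subgroup G} : x ∈ cm g A ↔ g⁻¹ * x * g ∈ A := by
  constructor
  · rintro ⟨a, ha, rfl⟩; simpa [mul_assoc] using ha
  · exact fun h => ⟨_, h, by simp [mul_assoc]⟩

theorem cm_inf_centralizer (g : G) (A B : Subgroup G) :
    cm g (A ⊓ Subgroup.centralizer (B : Set G)) = cm g A ⊓ Subgroup.centralizer (cm g B : Set G) := by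
  ext x
  simp only [conj_mem_cm_iff, Subgroup.mem_inf, Subgroup.mem_centralizer_iff, SetLike.mem_coe]
  refine and_congr_right fun _ => ⟨fun h b hb => ?_, fun h b hb => ?_⟩
  · have := h _ hb
    calc b * x = g * ((g⁻¹ * b * g) * (g⁻¹ * x * g)) * g⁻¹ := by group
      _ = g * ((g⁻¹ * x * g) * (g⁻¹ * b * g)) * g⁻¹ := by rw [this]
      _ = x * b := by group
  · have := h (g * b * g⁻¹) (by simpa [mul_assoc] using hb)
    calc b * (g⁻¹ * x * g) = g⁻¹ * (g * b * g⁻¹ * x) * g := by group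
      _ = g⁻¹ * (x * (g * b * g⁻¹)) * g := by rw [this]
      _ = _ := by group

theorem Member.conj {V A : Subgroup G} [hV : V.Normal] (h : Member p V A) (g : G) : Member p V (cm g A) := by
  refine ⟨h.pgrp.map _, ?_, ?_, fun W hW => ?_⟩
  · rintro _ ⟨a, ha, rfl⟩ _ ⟨b, hb, rfl⟩
    rw [← map_mul, ← map_mul, h.comm a ha b hb]
  · rintro v hv _ ⟨b, hb, rfl⟩ _ ⟨c, hc, rfl⟩
    have := h.quad (g⁻¹ * v * g) (by simpa using hV.conj_mem v hv g⁻¹) b hb c hc
    simp only [MulEquiv.coe_toMonoidHom, MulAut.conj_apply]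
    calc g * c * g⁻¹ * (g * b * g⁻¹ * v * (g * b * g⁻¹)⁻¹ * v⁻¹) * (g * c * g⁻¹)⁻¹
        = g * (c * (b * (g⁻¹ * v * g) * b⁻¹ * (g⁻¹ * v * g)⁻¹) * c⁻¹) * g⁻¹ := by group
      _ = g * (b * (g⁻¹ * v * g) * b⁻¹ * (g⁻¹ * v * g)⁻¹) * g⁻¹ := by rw [this]
      _ = _ := by group
  · have hW' : cm g⁻¹ W ≤ V := Local.map_conj_le fun w hw => hV.conj_mem w (hW hw) g⁻¹
    have := h.off _ hW'
    rw [card_cm, ← card_cm g (A ⊓ _), cm_inf_centralizer, ← card_cm g (cm g⁻¹ W ⊓ _), cm_inf_centralizer,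
      cm_cm, mul_inv_cancel, cm_one, ← card_cm g A] at this
    exact this

/-- The pair: a member whose group with any conjugate outside `K` is always the same. -/
theorem exists_minimal_pair {V K : Subgroup G} [hV : V.Normal] (S : Sylow p G) (hSK : (S : Subgroup G) ≤ K)
    (hK : K ≠ ⊤)
    (hY : Subgroup.normalizer ((sSup {R | Member p V R ∧ R ≤ (S : Subgroup G)} : Subgroup G) : Set G) ≤ K) :
    ∃ A P Γ : Subgroup G, Member p V A ∧ A ≤ P ∧ P ≤ Γ ∧ P ≤ K ∧ IsPGroup p P ∧ ¬ p ∣ P.relIndex Γ ∧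
      ¬ Γ ≤ K ∧ ∀ x ∈ Γ, x ∉ K → A ⊔ cm x A = Γ := by
  classical
  set P₀ := (S : Subgroup G) with hP₀
  set 𝒯 : Set (Subgroup G) := {R | Member p V R ∧ R ≤ P₀} with h𝒯
  let cnt : Subgroup G → Set (Subgroup G) := fun E => {R | Member p V R ∧ R ≤ E}
  obtain ⟨g₀, hg₀⟩ : ∃ g, g ∉ K := by
    by_contra h; push Not at h; exact hK (eq_top_iff.2 fun x _ => h x)
  obtain ⟨g, hg, hmax⟩ := Set.exists_max_image {g : G | g ∉ K} (fun g => (cnt (P₀ ⊓ cm g P₀)).ncard)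
    (Set.toFinite _) ⟨g₀, hg₀⟩
  set D := P₀ ⊓ cm g P₀ with hD
  set X := sSup (cnt D) with hX
  have hXD : X ≤ D := sSup_le fun R hR => hR.2
  have hXS : X ≤ P₀ := hXD.trans inf_le_left
  have hmemX : ∀ {R}, R ∈ cnt D → R ≤ X := fun hR => le_sSup hR
  -- unambiguity
  have hun : ∀ (a b : G) (E : Subgroup G), X ≤ E → E ≤ cm a P₀ → E ≤ cm b P₀ →
      ∀ R, Member p V R → R ≤ E → ¬ R ≤ X → a⁻¹ * b ∈ K := by
    intro a b E hXE ha hb R hR hRE hRX
    by_contra hab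
    have h1 : (cnt D).ncard < (cnt E).ncard :=
      Set.ncard_lt_ncard ⟨fun R' hR' => ⟨hR'.1, (hmemX hR').trans hXE⟩, fun h => hRX (hmemX (h ⟨hR, hRE⟩))⟩
        (Set.toFinite _)
    have h2 : (cnt E).ncard ≤ (cnt (P₀ ⊓ cm (a⁻¹ * b) P₀)).ncard := by
      rw [← Set.ncard_image_of_injective (cnt E) (f := cm a⁻¹) (fun R₁ R₂ e => by
        have := congrArg (cm a) e
        rwa [cm_cm, cm_cm, mul_inv_cancel, cm_one, cm_one] at this)]
      refine Set.ncard_le_ncard ?_ (Set.toFinite _)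
      rintro _ ⟨R', hR', rfl⟩
      refine ⟨hR'.1.conj _, le_inf ?_ ?_⟩
      · exact (cm_mono (hR'.2.trans ha)).trans (cm_inv_cm a P₀).le
      · exact (cm_mono (hR'.2.trans hb)).trans (cm_cm a⁻¹ b P₀).le
    exact absurd (hmax _ hab) (not_le.2 (h1.trans_le h2))
  -- a new member normalising the join of some
  have hnew : ∀ Z : Subgroup G, Z ≤ P₀ → Z ≤ sSup (cnt Z) → (∃ R ∈ 𝒯, ¬ R ≤ Z) →
      ∃ R ∈ 𝒯, ¬ R ≤ Z ∧ R ≤ Subgroup.normalizer (Z : Set G) := by
    intro Z hZS hZ hR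
    obtain ⟨M, ⟨hZM, hMS, hMT⟩, hmax'⟩ := Set.exists_max_image
      {M : Subgroup G | Z ≤ M ∧ M ≤ P₀ ∧ ∀ R ∈ 𝒯, R ≤ M → R ≤ Z} (fun M => Nat.card M) (Set.toFinite _)
      ⟨Z, le_rfl, hZS, fun _ _ h => h⟩
    have hlt := lt_inf_normalizer S hMS fun h => by
      obtain ⟨R, hR, hRZ⟩ := hR
      exact hRZ (hMT R hR (hR.2.trans h.ge))
    set N := P₀ ⊓ Subgroup.normalizer (M : Set G) with hN
    obtain ⟨R, hRT, hRN, hRZ⟩ : ∃ R ∈ 𝒯, R ≤ N ∧ ¬ R ≤ Z := by
      by_contra h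
      push Not at h
      exact hlt.ne (Subgroup.eq_of_le_of_card_ge hlt.le (hmax' N ⟨hZM.trans hlt.le, inf_le_left, h⟩))
    refine ⟨R, hRT, hRZ, fun r hr => ZJFailure.mem_normalizer_of_forall fun z hz => ?_⟩
    have h1 : sSup (cnt Z) ≤ Z.comap (MulAut.conj r).toMonoidHom := sSup_le fun R' hR' x hx => by
      refine hMT (cm r R') ⟨hR'.1.conj r, ?_⟩ ?_ (conj_mem_cm hx)
      · exact Local.map_conj_le fun y hy => mul_mem (mul_mem (hRT.2 hr) (hZS (hR'.2 hy))) (inv_mem (hRT.2 hr))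
      · exact Local.map_conj_le fun y hy => (Subgroup.mem_normalizer_iff.1 (hRN hr).2 y).1 (hZM (hR'.2 hy))
    exact h1 (hZ hz)
  have hXgen : X ≤ sSup (cnt X) := sSup_le fun R hR => le_sSup (show R ∈ cnt X from ⟨hR.1, hmemX hR⟩)
  have hTX : ∃ R ∈ 𝒯, ¬ R ≤ X := by
    by_contra h
    push Not at h
    refine hg (hY ?_)
    have hback : g⁻¹ ∈ Subgroup.normalizer ((sSup 𝒯 : Subgroup G) : Set G) := by
      refine ZJFailure.mem_normalizer_of_forall fun x hx => ?_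
      have h1 : sSup 𝒯 ≤ (sSup 𝒯).comap (MulAut.conj g⁻¹).toMonoidHom := sSup_le fun R hR y hy => by
        refine (le_sSup (α := Subgroup G) (s := 𝒯) ⟨hR.1.conj g⁻¹, ?_⟩) (conj_mem_cm hy)
        exact (cm_mono (((h R hR).trans hXD).trans inf_le_right)).trans (cm_inv_cm g P₀).le
      exact h1 hx
    simpa using inv_mem hback
  obtain ⟨Q₁, hQ₁T, hQ₁X, hQ₁N⟩ := hnew X hXS hXgen hTX
  set X' := cm g⁻¹ X with hX'
  have hX'S : X' ≤ P₀ := (cm_mono (hXD.trans inf_le_right)).trans (cm_inv_cm g P₀).le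
  have hgX' : cm g X' = X := by rw [hX', cm_cm, mul_inv_cancel, cm_one]
  have hX'gen : X' ≤ sSup (cnt X') := by
    rintro _ ⟨x, hx, rfl⟩
    have h1 : X ≤ (sSup (cnt X')).comap (MulAut.conj g⁻¹).toMonoidHom := sSup_le fun R hR y hy =>
      (le_sSup (α := Subgroup G) (s := cnt X') ⟨hR.1.conj g⁻¹, cm_mono (hmemX hR)⟩) (conj_mem_cm hy)
    exact h1 hx
  have hTX' : ∃ R ∈ 𝒯, ¬ R ≤ X' := by
    by_contra h
    push Not at h
    obtain ⟨R, hR, hRX⟩ := hTX
    refine hRX ?_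
    have h1 : 𝒯.ncard ≤ (cnt X).ncard := by
      rw [← Set.ncard_image_of_injective 𝒯 (f := cm g) (fun R₁ R₂ e => by
        have := congrArg (cm g⁻¹) e
        rwa [cm_inv_cm, cm_inv_cm] at this)]
      refine Set.ncard_le_ncard ?_ (Set.toFinite _)
      rintro _ ⟨R', hR', rfl⟩
      exact ⟨hR'.1.conj g, (cm_mono (h R' hR')).trans hgX'.le⟩
    have h2 : cnt X ⊆ 𝒯 := fun R' hR' => ⟨hR'.1, hR'.2.trans hXS⟩
    exact ((Set.eq_of_subset_of_ncard_le h2 h1 (Set.toFinite _)).ge hR).2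
  obtain ⟨Q₂, hQ₂T, hQ₂X, hQ₂N⟩ := hnew X' hX'S hX'gen hTX'
  set L₁ := Subgroup.normalizer (X : Set G) with hL₁
  have hXL : X ≤ L₁ := Subgroup.le_normalizer
  have hQ₂L : cm g Q₂ ≤ L₁ := Local.map_conj_le fun t ht => ZJFailure.mem_normalizer_of_forall fun x hx => by
    obtain ⟨y, hy, rfl⟩ := hgX'.ge hx
    refine hgX'.le ⟨t * y * t⁻¹, (Subgroup.mem_normalizer_iff.1 (hQ₂N ht) y).1 hy, ?_⟩
    simp [mul_assoc]
  -- an element of `L₁` outside `K`
  obtain ⟨c₀, hc₀, R, hR, -, hAR, hBR⟩ := Local.exists_conj_isPGroup (A := P₀ ⊓ L₁) (B := cm g P₀ ⊓ L₁) (C := L₁)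
    (S.2.to_le inf_le_left) ((S.2.map (MulAut.conj g).toMonoidHom).to_le inf_le_left) inf_le_right inf_le_right
  obtain ⟨a, ha⟩ := ZJFailure.exists_le_cm S hR
  set l := c₀⁻¹ with hl
  have hlL : l ∈ L₁ := inv_mem hc₀
  have hlK : l ∉ K := by
    intro hlK
    have h1 : (1 : G)⁻¹ * a ∈ K := hun 1 a _ (le_inf hXS hXL) (by rw [cm_one]; exact inf_le_left) (hAR.trans ha)
      Q₁ hQ₁T.1 (le_inf hQ₁T.2 hQ₁N) hQ₁X
    rw [inv_one, one_mul] at h1
    have h2 : g⁻¹ * (l * a) ∈ K := hun g (l * a) _ (le_inf (hXD.trans inf_le_right) hXL) inf_le_left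
      (by
        have := cm_mono (g := l) (hBR.trans ha)
        rwa [hl, cm_inv_cm, cm_cm] at this)
      _ (hQ₂T.1.conj g) (le_inf (cm_mono hQ₂T.2) hQ₂L) (fun h => hQ₂X (by
        have := cm_mono (g := g⁻¹) h
        rwa [cm_inv_cm, ← hX'] at this))
    refine hg ?_
    have h3 := mul_mem (mul_mem hlK h1) (inv_mem h2)
    rwa [show l * a * (g⁻¹ * (l * a))⁻¹ = g by group] at h3
  -- conjugation of members inside `N(X)` is controlled by `K`
  have hidxK : ¬ p ∣ P₀.relIndex K := fun hd =>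
    S.not_dvd_index (hd.trans (Subgroup.relIndex_dvd_index_of_le hSK))
  have hin : ∀ E : Subgroup G, IsPGroup p E → E ≤ K → ∃ k ∈ K, E ≤ cm k P₀ := fun E hE hEK => by
    obtain ⟨m, hm, hme⟩ := exists_conj_le hSK S.2 hidxK hEK hE
    refine ⟨m⁻¹, inv_mem hm, ?_⟩
    have := cm_mono (g := m⁻¹) hme
    rwa [cm_inv_cm] at this
  have huniq : ∀ A, Member p V A → A ≤ L₁ ⊓ K → ¬ A ≤ X → ∀ h ∈ L₁, cm h A ≤ K → h ∈ K := by
    intro A hA hAle hAX h hh hhA
    have hcX : cm h X = X := Local.map_conj_eq_of_mem_normalizer hh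
    have hEp : IsPGroup p ↥(A ⊔ X) := hA.pgrp.to_sup_of_normal_right' (S.2.to_le hXS) (hAle.trans inf_le_left)
    obtain ⟨k, hk, hkE⟩ := hin _ hEp (sup_le (hAle.trans inf_le_right) (hXS.trans hSK))
    obtain ⟨k', hk', hkE'⟩ := hin (cm h (A ⊔ X)) (hEp.map _) (by
      rw [cm, Subgroup.map_sup]; exact sup_le hhA (hcX.le.trans (hXS.trans hSK)))
    have h1 := hun k (h⁻¹ * k') (A ⊔ X) le_sup_right hkE (by
      have := cm_mono (g := h⁻¹) hkE'
      rwa [cm_inv_cm, cm_cm] at this) A hA le_sup_left hAX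
    have h2 := mul_mem hk' (inv_mem (mul_mem hk h1))
    rwa [show k' * (k * (k⁻¹ * (h⁻¹ * k')))⁻¹ = h by group] at h2
  -- the least pair
  obtain ⟨⟨A, l₂⟩, ⟨hA, hAle, hAX, hl₂, hl₂K⟩, hmin⟩ := Set.exists_min_image
    {q : Subgroup G × G | Member p V q.1 ∧ q.1 ≤ L₁ ⊓ K ∧ ¬ q.1 ≤ X ∧ q.2 ∈ L₁ ∧ q.2 ∉ K}
    (fun q => Nat.card ↥(q.1 ⊔ cm q.2 q.1)) (Set.toFinite _)
    ⟨(Q₁, l), hQ₁T.1, le_inf hQ₁N (hQ₁T.2.trans hSK), hQ₁X, hlL, hlK⟩
  set Γ := A ⊔ cm l₂ A with hΓ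
  have hΓL : Γ ≤ L₁ := sup_le (hAle.trans inf_le_left) (Local.map_conj_le fun x hx =>
    mul_mem (mul_mem hl₂ (hAle hx).1) (inv_mem hl₂))
  have hAΓ : A ≤ Γ := le_sup_left
  obtain ⟨P, hAP, hPle, hPp, hPmax⟩ : ∃ P, A ≤ P ∧ P ≤ Γ ⊓ K ∧ IsPGroup p P ∧
      ∀ Q : Subgroup G, P ≤ Q → Q ≤ Γ ⊓ K → IsPGroup p Q → Q = P := by
    obtain ⟨P, ⟨h1, h2, h3⟩, hm⟩ := Set.exists_max_image {P : Subgroup G | A ≤ P ∧ P ≤ Γ ⊓ K ∧ IsPGroup p P}
      (fun P => Nat.card P) (Set.toFinite _) ⟨A, le_rfl, le_inf hAΓ (hAle.trans inf_le_right), hA.pgrp⟩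
    exact ⟨P, h1, h2, h3, fun Q a b c => (Subgroup.eq_of_le_of_card_ge a (hm Q ⟨h1.trans a, b, c⟩)).symm⟩
  have hPΓ : P ≤ Γ := hPle.trans inf_le_left
  have hidx : ¬ p ∣ P.relIndex Γ := by
    intro hd
    obtain ⟨Q, hQ⟩ := (hPp.of_equiv (Subgroup.subgroupOfEquivOfLe hPΓ).symm).exists_le_sylow
    have hPQ : P ≤ (Q : Subgroup Γ).map Γ.subtype := fun x hx => ⟨⟨x, hPΓ hx⟩, hQ hx, rfl⟩
    have hne : P.subgroupOf Γ ≠ (Q : Subgroup Γ) := fun e => Q.not_dvd_index (by rwa [← e])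
    haveI : Group.IsNilpotent ↥(Q : Subgroup Γ) := Q.2.isNilpotent
    have hlt : (P.subgroupOf Γ).subgroupOf (Q : Subgroup Γ) < ⊤ :=
      lt_of_le_of_ne le_top fun e => hne (le_antisymm hQ (Subgroup.subgroupOf_eq_top.1 e))
    obtain ⟨x, hx1, hx2⟩ := SetLike.exists_of_lt (Group.normalizerCondition_of_isNilpotent _ hlt)
    set y : G := ((x : ↥Γ) : G) with hy
    have hyP : y ∉ P := fun h => hx2 h
    have hyn : cm y P ≤ P := Local.map_conj_le fun z hz => by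
      have := (Subgroup.mem_normalizer_iff.1 hx1 ⟨⟨z, hPΓ hz⟩, hQ hz⟩).1 hz
      exact this
    by_cases hyK : y ∈ K
    · refine hyP ((hPmax (P ⊔ Subgroup.zpowers y) le_sup_left ?_ ?_).le
        (Subgroup.mem_sup_right (Subgroup.mem_zpowers y)))
      · exact sup_le hPle (Subgroup.zpowers_le.2 ⟨(x : ↥Γ).2, hyK⟩)
      · exact (Q.2.map Γ.subtype).to_le (sup_le hPQ (Subgroup.zpowers_le.2 ⟨(x : ↥Γ), x.2, rfl⟩))
    · exact hyK (huniq A hA hAle hAX y (hΓL (x : ↥Γ).2) (((cm_mono hAP).trans hyn).trans (hPle.trans inf_le_right)))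
  obtain ⟨m, hm, hmP⟩ := exists_conj_le hPΓ hPp hidx (le_sup_right : cm l₂ A ≤ Γ) (hA.pgrp.map _)
  rw [cm_cm] at hmP
  have hmlK : m * l₂ ∈ K := huniq A hA hAle hAX _ (mul_mem (hΓL hm) hl₂) (hmP.trans (hPle.trans inf_le_right))
  have hmK : m⁻¹ ∉ K := fun h => hl₂K (by simpa using mul_mem h hmlK)
  set A' := cm (m * l₂) A with hA'
  have hA'le : A' ≤ L₁ ⊓ K := hmP.trans (le_inf (hPΓ.trans hΓL) (hPle.trans inf_le_right))
  have hA'X : ¬ A' ≤ X := fun h => hAX (by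
    have h1 := cm_mono (g := (m * l₂)⁻¹) h
    rwa [cm_inv_cm, show cm (m * l₂)⁻¹ X = X from Local.map_conj_eq_of_mem_normalizer
      (inv_mem (mul_mem (hΓL hm) hl₂))] at h1)
  refine ⟨A', P, Γ, hA.conj _, hmP, hPΓ, hPle.trans inf_le_right, hPp, hidx,
    fun h => hmK (inv_mem (h hm)), fun x hx hxK => ?_⟩
  refine Subgroup.eq_of_le_of_card_ge (sup_le (hmP.trans hPΓ) (Local.map_conj_le fun y hy =>
    mul_mem (mul_mem hx (hPΓ (hmP hy))) (inv_mem hx))) ?_
  exact hmin (A', x) ⟨hA.conj _, hA'le, hA'X, hΓL hx, hxK⟩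

/-- **The group theorem**, in a group all of whose proper overgroups of `S` normalise `T`. -/
theorem exists_good_of_over (hp2 : p ≠ 2) (S : Sylow p G) {T : Subgroup G} (hTS : T ≤ (S : Subgroup G))
    (hTc : ∀ s ∈ (S : Subgroup G), ∀ t ∈ T, s * t = t * s) (hTQ : T ≤ pCore p G)
    (hTn : ¬ T.Normal)
    (hJ : Subgroup.normalizer (ZJ.thompsonJ 0 (S : Subgroup G) : Set G) ≤ Subgroup.normalizer (T : Set G))
    (hover : ∀ H : Subgroup G, (S : Subgroup G) ≤ H → H ≠ ⊤ → H ≤ Subgroup.normalizer (T : Set G)) :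
    ∃ n, Good p T n := by
  classical
  set P₀ := (S : Subgroup G) with hP₀
  set K := Subgroup.normalizer (T : Set G) with hKdef
  set Q := pCore p G with hQdef
  have hQP : Q ≤ P₀ := pCore_le_sylow S
  have hQn : Q.Normal := inferInstance
  have hKtop : K ≠ ⊤ := fun h => hTn (Subgroup.normalizer_eq_top_iff.1 h)
  have hSK : P₀ ≤ K := fun s hs => ZJFailure.mem_normalizer_of_forall fun t ht => by
    rw [hTc s hs t ht, mul_inv_cancel_right]; exact ht
  set V := Subgroup.normalClosure (T : Set G) with hVdef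
  have hTV : T ≤ V := Subgroup.le_normalClosure
  have hVn : V.Normal := Subgroup.normalClosure_normal
  have hVQ : V ≤ Q := Subgroup.normalClosure_le_normal hTQ
  have hQc : ∀ q ∈ Q, ∀ v ∈ V, q * v = v * q := by
    have h : V ≤ Subgroup.centralizer (Q : Set G) := Subgroup.normalClosure_le_normal (N := Subgroup.centralizer (Q : Set G))
      fun t ht => Subgroup.mem_centralizer_iff.2 fun q hq => hTc q (hQP hq) t ht
    exact fun q hq v hv => Subgroup.mem_centralizer_iff.1 (h hv) q hq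
  have hVc : ∀ a ∈ V, ∀ b ∈ V, a * b = b * a := fun a ha b hb => hQc a (hVQ ha) b hb
  have hVp : IsPGroup p V := S.2.to_le (hVQ.trans hQP)
  set C := Subgroup.centralizer (V : Set G) with hCdef
  have hCn : C.Normal := inferInstance
  -- a member moving `V`
  obtain ⟨A₀, hA₀, hA₀S, hA₀C⟩ : ∃ A, Member p V A ∧ A ≤ P₀ ∧ ¬ A ≤ C := by
    have hins : ∀ A ∈ ZJ.goodMax 0 P₀, ∀ x ∈ P₀, (∀ a ∈ A, a * x = x * a) → x ∈ A := by
      intro A hA x hx hxA
      set E := Subgroup.closure (insert x (A : Set G)) with hE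
      have hEg : ZJ.IsGood 0 E := by
        refine ZJ.isGood_closure ?_ (fun y _ => pow_zero y)
        rintro y (rfl | hy) w (rfl | hw)
        · rfl
        · exact (hxA w hw).symm
        · exact hxA y hy
        · exact hA.2.1.1 y hy w hw
      have hAE : A ≤ E := fun y hy => Subgroup.subset_closure (Or.inr hy)
      have hEP : E ≤ P₀ := (Subgroup.closure_le P₀).mpr (Set.insert_subset hx hA.1)
      rw [Subgroup.eq_of_le_of_card_ge hAE (hA.2.2 E hEP hEg)]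
      exact Subgroup.subset_closure (Set.mem_insert _ _)
    obtain ⟨A, ⟨hA, hAC⟩, hmax⟩ : ∃ A, (A ∈ ZJ.goodMax 0 P₀ ∧ ¬ A ≤ C) ∧
        ∀ A', A' ∈ ZJ.goodMax 0 P₀ ∧ ¬ A' ≤ C → Nat.card ↥(A' ⊓ V) ≤ Nat.card ↥(A ⊓ V) := by
      refine Set.exists_max_image {A | A ∈ ZJ.goodMax 0 P₀ ∧ ¬ A ≤ C} (fun A => Nat.card ↥(A ⊓ V)) (Set.toFinite _) ?_
      by_contra h
      rw [Set.not_nonempty_iff_eq_empty, Set.eq_empty_iff_forall_notMem] at h
      have hall : ∀ A ∈ ZJ.goodMax 0 P₀, A ≤ C := fun A hA => by_contra fun h' => h A ⟨hA, h'⟩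
      have hfrat : Subgroup.normalizer ((P₀ ⊓ C : Subgroup G) : Set G) ⊔ C = ⊤ := by
        have h := Sylow.normalizer_sup_eq_top (sylowInfNormal S C)
        rwa [coe_sylowInfNormal, Subgroup.subgroupOf_map_subtype] at h
      refine hKtop (top_le_iff.1 (hfrat ▸ sup_le (fun n hn => hJ (ZJFailure.mem_normalizer_of_forall fun y hy => ?_))
        fun c hc => ZJFailure.mem_normalizer_of_forall fun t ht => by
          rw [← Subgroup.mem_centralizer_iff.1 hc t (hTV ht), mul_inv_cancel_right]; exact ht))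
      have h1 : ZJ.thompsonJ 0 P₀ ≤ (ZJ.thompsonJ 0 P₀).comap (MulAut.conj n).toMonoidHom := by
        refine sSup_le fun A hA z hz => ?_
        have hle : cm n A ≤ P₀ ⊓ C := Local.map_conj_le fun x hx =>
          (Subgroup.mem_normalizer_iff.mp hn x).mp ⟨hA.1 hx, hall A hA hx⟩
        refine ZJ.le_thompsonJ (A := cm n A) ⟨hle.trans inf_le_left, ZJ.isGood_map _ hA.2.1, fun E hE hEg => ?_⟩
          (conj_mem_cm hz)
        rw [card_cm]; exact hA.2.2 E hE hEg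
      exact h1 hy
    have hVA : V ≤ Subgroup.normalizer (A : Set G) := by
      by_contra hnot
      have h1 : ∀ b ∈ V, ∀ c ∈ V, ⁅b, c⁆ = 1 := fun b hb c hc =>
        commutatorElement_eq_one_iff_mul_comm.2 (hVc b hb c hc)
      obtain ⟨A', hA', hlt, hA'N⟩ := ZJ.replacement hp2 (Or.inl rfl) S.2 (hVQ.trans hQP)
        (Subgroup.le_normalizer_of_normal ..) (fun b hb c hc d hd => by rw [h1 b hb c hc, one_mul, mul_one])
        hA (fun b hb c hc => by rw [h1 b hb c hc]; exact A.one_mem) hnot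
      have hA'C : A' ≤ C := by
        by_contra h
        exact hlt.ne (Subgroup.eq_of_le_of_card_ge hlt.le (hmax A' ⟨hA', h⟩))
      refine hnot (le_trans (fun v hv => hins A' hA' v (hQP (hVQ hv)) fun a ha =>
        (Subgroup.mem_centralizer_iff.1 (hA'C ha) v hv).symm) hA'N)
    refine ⟨A, ⟨S.2.to_le hA.1, hA.2.1.1, fun v hv b hb c hc => ?_, fun W hW => ?_⟩, hA.1, hAC⟩
    · have h1 : b * v * b⁻¹ * v⁻¹ ∈ A := by
        have h2 := (Subgroup.mem_normalizer_iff.mp (hVA hv) b⁻¹).mp (A.inv_mem hb)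
        have h3 := A.mul_mem hb h2
        rwa [show b * (v * b⁻¹ * v⁻¹) = b * v * b⁻¹ * v⁻¹ by group] at h3
      rw [hA.2.1.1 c hc _ h1, mul_inv_cancel_right]
    · set E₁ := A ⊓ Subgroup.centralizer (W : Set G) with hE₁
      have hEc : W ≤ Subgroup.normalizer (E₁ : Set G) := fun w hw => ZJFailure.mem_normalizer_of_forall fun e he => by
        rw [Subgroup.mem_centralizer_iff.1 he.2 w hw, mul_inv_cancel_right]; exact he
      have hcard := ZJ.card_mul_eq_of_le_normalizer hEc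
      have hEg : ZJ.IsGood 0 (Subgroup.closure ((E₁ : Set G) ∪ (W : Set G))) := by
        refine ZJ.isGood_closure ?_ (fun y _ => pow_zero y)
        rintro x (hx | hx) y (hy | hy)
        · exact hA.2.1.1 x hx.1 y hy.1
        · exact (Subgroup.mem_centralizer_iff.1 hx.2 y hy).symm
        · exact Subgroup.mem_centralizer_iff.1 hy.2 x hx
        · exact hVc x (hW hx) y (hW hy)
      rw [Subgroup.closure_union, Subgroup.closure_eq, Subgroup.closure_eq] at hEg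
      have h1 := hA.2.2 _ (sup_le (inf_le_left.trans hA.1) ((hW.trans hVQ).trans hQP)) hEg
      have h2 : Nat.card ↥(E₁ ⊓ W) ≤ Nat.card ↥(W ⊓ Subgroup.centralizer (A : Set G)) :=
        Subgroup.card_le_of_le fun x hx => ⟨hx.2, Subgroup.mem_centralizer_iff.2 fun a ha => hA.2.1.1 a ha x hx.1.1⟩
      rw [mul_comm (Nat.card W), hcard]
      exact Nat.mul_le_mul h1 h2
  have hY : Subgroup.normalizer ((sSup {R | Member p V R ∧ R ≤ P₀} : Subgroup G) : Set G) ≤ K := by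
    refine hover _ (fun s hs => ZJFailure.mem_normalizer_of_forall fun x hx => ?_) fun htop => hA₀C ?_
    · have h1 : (sSup {R | Member p V R ∧ R ≤ P₀} : Subgroup G) ≤
          (sSup {R | Member p V R ∧ R ≤ P₀} : Subgroup G).comap (MulAut.conj s).toMonoidHom :=
        sSup_le fun R hR y hy => (le_sSup (α := Subgroup G) (s := {R | Member p V R ∧ R ≤ P₀}) ⟨hR.1.conj s,
          Local.map_conj_le fun r hr => mul_mem (mul_mem hs (hR.2 hr)) (inv_mem hs)⟩) (conj_mem_cm hy)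
      exact h1 hx
    · haveI : (sSup {R | Member p V R ∧ R ≤ P₀} : Subgroup G).Normal := Subgroup.normalizer_eq_top_iff.1 htop
      have h1 : A₀ ≤ Q := (le_sSup (α := Subgroup G) (s := {R | Member p V R ∧ R ≤ P₀}) ⟨hA₀, hA₀S⟩).trans
        (le_pCore (S.2.to_le (sSup_le fun R hR => hR.2)))
      exact fun a ha => Subgroup.mem_centralizer_iff.2 fun v hv => (hQc a (h1 ha) v hv).symm
  obtain ⟨A, P, Γ, hA, hAP, hPΓ, hPK, hPp, hidx, hΓK, hgen⟩ := exists_minimal_pair S hSK hKtop hY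
  refine exists_good hp2 hVc hVp hTV hA hAP hPΓ hPK hPp hidx (fun R hR hRp r hr t ht => ?_) hΓK hgen
  have hidxK : ¬ p ∣ P₀.relIndex K := fun hd =>
    S.not_dvd_index (hd.trans (Subgroup.relIndex_dvd_index_of_le hSK))
  obtain ⟨m, hm, hmR⟩ := exists_conj_le hSK S.2 hidxK hR hRp
  have h1 := hTc _ (hmR (conj_mem_cm hr)) (m * t * m⁻¹) ((Subgroup.mem_normalizer_iff.1 hm t).1 ht)
  calc r * t = m⁻¹ * ((m * r * m⁻¹) * (m * t * m⁻¹)) * m := by group
    _ = m⁻¹ * ((m * t * m⁻¹) * (m * r * m⁻¹)) * m := by rw [h1]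
    _ = t * r := by group

/-- **The group theorem.** -/
theorem exists_good_of_not_normal (hp2 : p ≠ 2) (S : Sylow p G) {T : Subgroup G} (hTS : T ≤ (S : Subgroup G))
    (hTc : ∀ s ∈ (S : Subgroup G), ∀ t ∈ T, s * t = t * s) (hTQ : T ≤ pCore p G)
    (hTn : ¬ T.Normal)
    (hJ : Subgroup.normalizer (ZJ.thompsonJ 0 (S : Subgroup G) : Set G) ≤ Subgroup.normalizer (T : Set G)) :
    ∃ n, Good p T n := by
  classical
  obtain ⟨H, ⟨hSH, hHK⟩, hmin⟩ := Set.exists_min_image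
    {H : Subgroup G | (S : Subgroup G) ≤ H ∧ ¬ H ≤ Subgroup.normalizer (T : Set G)} (fun H => Nat.card H)
    (Set.toFinite _) ⟨⊤, le_top, fun h => hTn (Subgroup.normalizer_eq_top_iff.1 (top_le_iff.1 h))⟩
  set S' : Sylow p H := S.subtype hSH with hS'
  set T' := T.subgroupOf H with hT'
  have hTH : T ≤ H := hTS.trans hSH
  have hmT : T'.map H.subtype = T := Subgroup.map_subgroupOf_eq_of_le hTH
  have hmS : (S' : Subgroup H).map H.subtype = (S : Subgroup G) := Subgroup.map_subgroupOf_eq_of_le hSH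
  have hback : ∀ h : H, (h : G) ∈ Subgroup.normalizer (T : Set G) → h ∈ Subgroup.normalizer (T' : Set H) :=
    fun h hh => ZJFailure.mem_normalizer_of_forall fun t ht => (Subgroup.mem_normalizer_iff.1 hh (t : G)).1 ht
  have hfwd : ∀ h : H, h ∈ Subgroup.normalizer (T' : Set H) → (h : G) ∈ Subgroup.normalizer (T : Set G) :=
    fun h hh => ZJFailure.mem_normalizer_of_forall fun t ht =>
      (Subgroup.mem_normalizer_iff.1 hh ⟨t, hTH ht⟩).1 ht
  haveI : ((pCore p G).subgroupOf H).Normal := inferInstance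
  obtain ⟨n, hn, hcop, ⟨t, ht, hmov⟩, htr⟩ := exists_good_of_over hp2 S' (T := T') (fun t ht => hTS ht)
    (fun s hs t ht => Subtype.ext (hTc s hs t ht))
    ((Subgroup.comap_mono hTQ).trans (le_pCore (((S.2.to_le (pCore_le_sylow S))).comap_of_injective H.subtype
      H.subtype_injective)))
    (fun hn => hHK fun h hh => hfwd ⟨h, hh⟩ (by rw [Subgroup.normalizer_eq_top_iff.2 hn]; trivial))
    (fun h hh => hback h (hJ (by
      have := Subgroup.le_normalizer_map H.subtype ⟨h, hh, rfl⟩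
      rwa [← ZJ.thompsonJ_map 0 H.subtype_injective, hmS] at this)))
    (fun M hM hne m hm => by
      by_contra hmn
      have h1 := hmin (M.map H.subtype)
        ⟨hmS.ge.trans (Subgroup.map_mono hM), fun hle => hmn (hback m (hle ⟨m, hm, rfl⟩))⟩
      refine hne ((Subgroup.map_injective H.subtype_injective) ?_)
      rw [← MonoidHom.range_eq_map, Subgroup.range_subtype]
      exact Subgroup.eq_of_le_of_card_ge (Subgroup.map_subtype_le M) h1)
  have hcom : ∀ y ∈ comSub T (n : G), ∃ y' ∈ comSub T' n, (y' : G) = y := by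
    intro y hy
    have h1 : comSub T (n : G) ≤ (comSub T' n).map H.subtype := (Subgroup.closure_le _).2 (by
      rintro _ ⟨i, s, hs, rfl⟩
      exact ⟨_, Subgroup.subset_closure ⟨i, ⟨s, hTH hs⟩, hs, rfl⟩, by simp⟩)
    exact h1 hy
  refine ⟨n, hfwd n hn, by rwa [Subgroup.orderOf_coe], ⟨t, ht, fun e => hmov (Subtype.ext e)⟩,
    fun a ha b hb ha1 hb1 => ?_⟩
  obtain ⟨a', ha', rfl⟩ := hcom a ha
  obtain ⟨b', hb', rfl⟩ := hcom b hb
  obtain ⟨i, hi⟩ := htr a' ha' b' hb' (fun e => ha1 (by rw [e]; rfl)) (fun e => hb1 (by rw [e]; rfl))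
  exact ⟨i, by simpa using congrArg Subtype.val hi⟩

end CfsgLib.OffenderSL2
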