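import Cfsg.Agent.Lib.SL2Pair
import Cfsg.Agent.Lib.ZJFailure.Data
import Cfsg.Agent.Lib.StrongFusion.Family

/-!
A group generated by an offender and any of its conjugates outside the normalizer of a central subgroup
contains an element normalising that subgroup and moving its commutator transitively.
-/

set_option autoImplicit false
set_option linter.unusedSectionVars false
set_option linter.unusedVariables false
set_option linter.style.haveILetI false
set_option maxHeartbeats 800000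

namespace CfsgLib.OffenderSL2

open CfsgLib CfsgLib.StrongFusion CfsgLib.SL2Pair

universe u

variable {G : Type u} [Group G] [Finite G] {p : ℕ} [hp : Fact p.Prime]

/-- A quadratic abelian `p`-subgroup that offends on every subgroup of `V`. -/
structure Member (p : ℕ) (V A : Subgroup G) : Prop where
  pgrp : IsPGroup p A
  comm : ∀ a ∈ A, ∀ b ∈ A, a * b = b * a
  quad : ∀ v ∈ V, ∀ b ∈ A, ∀ c ∈ A, c * (b * v * b⁻¹ * v⁻¹) * c⁻¹ = b * v * b⁻¹ * v⁻¹
  off : ∀ W : Subgroup G, W ≤ V → Nat.card W * Nat.card ↥(A ⊓ Subgroup.centralizer (W : Set G)) ≤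
    Nat.card A * Nat.card ↥(W ⊓ Subgroup.centralizer (A : Set G))

/-- The commutator of `n` with `T`. -/
def comSub (T : Subgroup G) (n : G) : Subgroup G :=
  Subgroup.closure {y | ∃ i : ℕ, ∃ t ∈ T, y = n ^ i * t * (n ^ i)⁻¹ * t⁻¹}

/-- The element we look for. -/
structure Good (p : ℕ) (T : Subgroup G) (n : G) : Prop where
  norm : n ∈ Subgroup.normalizer (T : Set G)
  cop : (orderOf n).Coprime p
  moves : ∃ t ∈ T, n * t * n⁻¹ ≠ t
  trans : ∀ a ∈ comSub T n, ∀ b ∈ comSub T n, a ≠ 1 → b ≠ 1 → ∃ i : ℕ, n ^ i * a * (n ^ i)⁻¹ = b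

theorem comSub_le {T : Subgroup G} {n : G} (hn : n ∈ Subgroup.normalizer (T : Set G)) : comSub T n ≤ T :=
  (Subgroup.closure_le T).2 (by
    rintro _ ⟨i, t, ht, rfl⟩
    exact T.mul_mem ((Subgroup.mem_normalizer_iff.1 (pow_mem hn i) t).1 ht) (T.inv_mem ht))

/-- In a commutator with an element of order prime to `p`, only `1` is fixed. -/
theorem eq_one_of_fixed {T : Subgroup G} (hT : ∀ a ∈ T, ∀ b ∈ T, a * b = b * a) (hTp : IsPGroup p T) {n : G}
    (hn : n ∈ Subgroup.normalizer (T : Set G)) (hc : (orderOf n).Coprime p) {v : G} (hv : v ∈ comSub T n)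
    (hfix : n * v * n⁻¹ = v) : v = 1 := by
  letI : CommGroup ↥T := { (inferInstance : Group ↥T) with mul_comm := fun a b => Subtype.ext (hT a a.2 b b.2) }
  have hmem : ∀ (i : ℕ) (t : ↥T), n ^ i * t * (n ^ i)⁻¹ ∈ T := fun i t =>
    (Subgroup.mem_normalizer_iff.1 (pow_mem hn i) t).1 t.2
  let cj : ℕ → (↥T →* ↥T) := fun i => MonoidHom.mk' (fun t => ⟨_, hmem i t⟩) fun a b =>
    Subtype.ext (show n ^ i * (a * b : G) * (n ^ i)⁻¹ = _ * _ by group)
  let τ : ↥T →* ↥T := ∏ i ∈ Finset.range (orderOf n), cj i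
  have hτ : ∀ t : ↥T, τ t = ∏ i ∈ Finset.range (orderOf n), (⟨_, hmem i t⟩ : ↥T) := fun t =>
    MonoidHom.finsetProd_apply _ _ _
  have hshift : ∀ (t : ↥T), τ ⟨_, hmem 1 t⟩ = τ t := fun t => by
    have h1 := Finset.prod_range_succ (fun i => (⟨_, hmem i t⟩ : ↥T)) (orderOf n)
    have h2 := Finset.prod_range_succ' (fun i => (⟨_, hmem i t⟩ : ↥T)) (orderOf n)
    rw [h1, show (⟨_, hmem (orderOf n) t⟩ : ↥T) = t from Subtype.ext (by simp [pow_orderOf_eq_one]),
      show (⟨_, hmem 0 t⟩ : ↥T) = t from Subtype.ext (by simp)] at h2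
    rw [hτ, hτ]
    refine Eq.trans ?_ (mul_right_cancel h2).symm
    refine Finset.prod_congr rfl fun i _ => Subtype.ext ?_
    show n ^ i * (n ^ 1 * t * (n ^ 1)⁻¹) * (n ^ i)⁻¹ = n ^ (i + 1) * t * (n ^ (i + 1))⁻¹
    rw [pow_succ]; group
  have hpow : ∀ (i : ℕ) (t : ↥T), τ ⟨_, hmem i t⟩ = τ t := by
    intro i t
    induction i with
    | zero => exact congrArg τ (Subtype.ext (by simp))
    | succ i ih =>
      rw [← ih, ← hshift ⟨_, hmem i t⟩]
      exact congrArg τ (Subtype.ext (show n ^ (i + 1) * t * (n ^ (i + 1))⁻¹ =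
        n ^ 1 * (n ^ i * t * (n ^ i)⁻¹) * (n ^ 1)⁻¹ by rw [pow_succ']; group))
  have hD : comSub T n ≤ τ.ker.map T.subtype := (Subgroup.closure_le _).2 (by
    rintro _ ⟨i, t, ht, rfl⟩
    refine ⟨⟨_, hmem i ⟨t, ht⟩⟩ * (⟨t, ht⟩ : ↥T)⁻¹, ?_, rfl⟩
    show τ _ = 1
    rw [map_mul, map_inv, hpow, mul_inv_cancel])
  obtain ⟨w, hw, rfl⟩ := hD hv
  have hτw : τ w = w ^ orderOf n := by
    rw [hτ]
    rw [Finset.prod_congr rfl fun i _ => show (⟨_, hmem i w⟩ : ↥T) = w from Subtype.ext ?_,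
      Finset.prod_const, Finset.card_range]
    induction i with
    | zero => simp
    | succ i ih =>
      calc n ^ (i + 1) * w * (n ^ (i + 1))⁻¹ = n * (n ^ i * w * (n ^ i)⁻¹) * n⁻¹ := by rw [pow_succ']; group
        _ = w := by
          have := ih (by simp at *; omega)
          simp only at this
          rw [this]; exact hfix
  obtain ⟨k, hk⟩ := hTp w
  have hw1 : w = 1 := orderOf_eq_one_iff.1 (Nat.eq_one_of_dvd_coprimes (hc.pow_right k)
    (orderOf_dvd_of_pow_eq_one (hτw ▸ MonoidHom.mem_ker.1 hw)) (orderOf_dvd_of_pow_eq_one hk))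
  rw [hw1]; rfl

/-- An element outside of which no two points meet: it permutes the fixed points transitively. -/
theorem exists_scalar {U : Type} [AddCommGroup U] [Finite U] [Nontrivial U] {Γ : Type*} [Group Γ] [Finite Γ]
    {ρ : Γ →* AddMonoid.End U} {A M : Subgroup Γ} (h : Pair ρ A M) (hU : IsPGroup p (Multiplicative U))
    (hker : ∀ a ∈ A, a ∈ M.normalCore → ρ a = 1)
    (hcard : Nat.card ↥(A ⊓ ρ.ker) * Nat.card (fix ρ A) ≤ Nat.card A) :
    ∃ g ∈ M, ∀ (j : ℕ), ∀ u ∈ fix ρ A, u ≠ 0 → ∀ v ∈ fix ρ A, v ≠ 0 → ∃ i : ℕ, ρ ((g ^ p ^ j) ^ i) u = v := by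
  classical
  obtain ⟨x₀, hx₀⟩ := h.ex
  set X := fix ρ A with hX
  set w := Nat.card X with hw
  have hsq : Nat.card U = w ^ 2 := card_sq h
  have hkerM : ρ.ker ≤ M := fun g hg => by
    by_contra hgM
    have hX0 : ∀ v : X, v = 0 := fun v => Subtype.ext (eq_zero_of_fix h hgM v.2 (by
      rw [MonoidHom.mem_ker.mp hg]; exact v.2))
    have : w = 1 := Nat.card_eq_one_iff_unique.mpr ⟨⟨fun a b => (hX0 a).trans (hX0 b).symm⟩, ⟨0⟩⟩
    rw [this, one_pow] at hsq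
    exact absurd hsq (Finite.one_lt_card (α := U)).ne'
  let q : Γ →* Γ ⧸ ρ.ker := QuotientGroup.mk' ρ.ker
  let ρ' : Γ ⧸ ρ.ker →* AddMonoid.End U := QuotientGroup.lift ρ.ker ρ le_rfl
  have hρinj : Function.Injective ρ' := (injective_iff_map_eq_one ρ').mpr fun y hy => by
    obtain ⟨g, rfl⟩ := QuotientGroup.mk'_surjective ρ.ker y
    exact (QuotientGroup.eq_one_iff g).2 hy
  have hρ' : ∀ g, ρ' (q g) = ρ g := fun g => rfl
  have hqs : Function.Surjective q := QuotientGroup.mk'_surjective _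
  have hqM : ∀ g, q g ∈ M.map q ↔ g ∈ M := fun g => ⟨fun ⟨m, hm, e⟩ => by
    have h := M.mul_mem hm (hkerM (QuotientGroup.eq.1 e))
    rwa [mul_inv_cancel_left] at h, fun h => ⟨g, h, rfl⟩⟩
  have hpair' : Pair ρ' (A.map q) (M.map q) := by
    refine ⟨fun y hy => ?_, Subgroup.map_mono h.le, ?_, ?_, ?_, ?_⟩
    · obtain ⟨g, rfl⟩ := hqs y
      have h := congrArg (Subgroup.map q) (h.gen g fun hm => hy ((hqM g).2 hm))
      rw [Subgroup.map_sup, Subgroup.map_map, Subgroup.map_top_of_surjective q hqs,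
        show q.comp (MulAut.conj g).toMonoidHom = (MulAut.conj (q g)).toMonoidHom.comp q from
          MonoidHom.ext fun z => show q (g * z * g⁻¹) = q g * q z * (q g)⁻¹ by rw [map_mul, map_mul, map_inv],
        ← Subgroup.map_map] at h
      exact h
    · exact ⟨q x₀, fun h' => hx₀ ((hqM _).1 h')⟩
    · rintro _ ⟨a, ha, rfl⟩ _ ⟨b, hb, rfl⟩
      rw [hρ', hρ']
      exact h.quad a ha b hb
    · exact fun W hW => h.irr W fun g v hv => hρ' g ▸ hW (q g) v hv
    · obtain ⟨g, hg⟩ := h.nontriv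
      exact ⟨q g, by rwa [hρ']⟩
  have hfix' : fix ρ' (A.map q) = X := AddSubgroup.ext fun v =>
    ⟨fun hh a ha => hρ' a ▸ hh _ ⟨a, ha, rfl⟩, by rintro hh _ ⟨a, ha, rfl⟩; rw [hρ']; exact hh a ha⟩
  have hq1 : ∀ a ∈ A, a ∈ M.normalCore → q a = 1 := fun a ha hc => (QuotientGroup.eq_one_iff a).2 (hker a ha hc)
  have hfree : ∀ a ∈ A.map q, a ≠ 1 → ∀ v, ρ' a v = v → v ∈ fix ρ' (A.map q) := by
    rintro _ ⟨a, ha, rfl⟩ hne v hv
    rw [hfix']
    exact by_contra fun hvX => hne (hq1 a ha (mem_normalCore h ha hvX hv))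
  have hcard' : Nat.card ↥(A.map q) = w := by
    refine le_antisymm ?_ ?_
    · have h1 := SL2Pair.card_le hpair' (A₀ := ⊥) (fun y hy hc => ?_)
      · rwa [Subgroup.card_bot, one_mul, hfix'] at h1
      obtain ⟨a, ha, rfl⟩ := hy
      refine Subgroup.mem_bot.mpr (hq1 a ha fun g => ?_)
      have h1 := hc (q g)
      rw [← map_inv, ← map_mul, ← map_mul] at h1
      exact (hqM _).1 h1
    · let f := q.subgroupMap A
      have h1 := Subgroup.card_mul_index f.ker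
      rw [Subgroup.index_ker, MonoidHom.range_eq_top.mpr (q.subgroupMap_surjective A), Subgroup.card_top] at h1
      have h2 : Nat.card f.ker ≤ Nat.card ↥(A ⊓ ρ.ker) := Nat.card_le_card_of_injective
        (fun a => (⟨((a : ↥A) : Γ), (a : ↥A).2,
          (QuotientGroup.eq_one_iff _).1 (congrArg Subtype.val (MonoidHom.mem_ker.mp a.2))⟩ : ↥(A ⊓ ρ.ker)))
        (fun a b e => Subtype.ext (Subtype.ext (congrArg (fun z : ↥(A ⊓ ρ.ker) => (z : Γ)) e)))
      exact Nat.le_of_mul_le_mul_left ((hcard.trans h1.ge).trans (Nat.mul_le_mul_right _ h2)) Nat.card_pos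
  obtain ⟨F, iF, iF', hFc, e, f, hact⟩ :=
    recognize hpair' hρinj hfree (by rw [hfix', hcard'])
  rw [hcard'] at hFc
  -- the line of fixed points and an element acting on it by a generator
  have hlin : ∀ (c : F) (u : U), u ∈ X → f.symm (c • f u) ∈ X := fun c u hu => (mem_fix ρ A).mpr fun a ha =>
    f.injective (by
      rw [← hρ' a, hact, AddEquiv.apply_symm_apply, Matrix.mulVec_smul, ← hact, hρ', (mem_fix ρ A).mp hu a ha])
  have hw1 : 1 < w := by
    by_contra h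
    have hwp : 0 < w := Nat.card_pos
    rw [show w = 1 by omega, one_pow] at hsq
    exact absurd hsq (Finite.one_lt_card (α := U)).ne'
  obtain ⟨u₀, hu₀X, hu₀⟩ : ∃ u ∈ X, u ≠ 0 := by
    by_contra h
    push Not at h
    have : w = 1 := Nat.card_eq_one_iff_unique.mpr
      ⟨⟨fun a b => Subtype.ext ((h a a.2).trans (h b b.2).symm)⟩, ⟨0⟩⟩
    omega
  set w₁ := f u₀ with hw₁
  have hw₁0 : w₁ ≠ 0 := fun e => hu₀ (f.injective (by rw [← hw₁, e, map_zero]))
  have hline : ∀ u ∈ X, ∃ c : F, f u = c • w₁ := by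
    let g : F → X := fun c => ⟨f.symm (c • w₁), hlin c u₀ hu₀X⟩
    have hg : Function.Injective g := fun a b e => smul_left_injective F hw₁0 (f.symm.injective (congrArg Subtype.val e))
    have hb := (Nat.bijective_iff_injective_and_card g).mpr ⟨hg, by rw [Nat.card_eq_fintype_card, hFc]⟩
    intro u hu
    obtain ⟨c, hc⟩ := hb.2 ⟨u, hu⟩
    exact ⟨c, by rw [← show f.symm (c • w₁) = u from congrArg Subtype.val hc, AddEquiv.apply_symm_apply]⟩
  obtain ⟨γ, hγ⟩ := IsCyclic.exists_generator (α := Fˣ)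
  obtain ⟨D, hD⟩ : ∃ D : Matrix.SpecialLinearGroup (Fin 2) F, D.1.mulVec w₁ = (γ : F) • w₁ := by
    by_cases h0 : w₁ 0 = 0
    · refine ⟨⟨!![((γ⁻¹ : Fˣ) : F), 0; 0, (γ : F)], by simp [Matrix.det_fin_two]⟩, funext fun i => ?_⟩
      fin_cases i <;> simp [Matrix.mulVec, dotProduct, Fin.sum_univ_two, h0]
    · refine ⟨⟨!![(γ : F), 0; ((γ : F) - ((γ⁻¹ : Fˣ) : F)) * (w₁ 1 / w₁ 0), ((γ⁻¹ : Fˣ) : F)],
        by simp [Matrix.det_fin_two]⟩, funext fun i => ?_⟩
      fin_cases i <;> simp [Matrix.mulVec, dotProduct, Fin.sum_univ_two, h0] <;> field_simp <;> ring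
  obtain ⟨g, hg⟩ := hqs (e.symm D)
  have hgact : ∀ u ∈ X, f (ρ g u) = (γ : F) • f u := fun u hu => by
    obtain ⟨c, hc⟩ := hline u hu
    rw [← hρ' g, hact, hg, MulEquiv.apply_symm_apply, hc, Matrix.mulVec_smul, hD, smul_comm]
  have hgpow : ∀ (i : ℕ), ∀ u ∈ X, f (ρ (g ^ i) u) = ((γ ^ i : Fˣ) : F) • f u := by
    intro i
    induction i with
    | zero => intro u _; simp
    | succ i ih =>
      intro u hu
      have hu' : ρ g u ∈ X := by
        rw [← f.symm_apply_apply (ρ g u), hgact u hu]; exact hlin _ u hu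
      rw [pow_succ, map_mul]
      show f (ρ (g ^ i) (ρ g u)) = _
      rw [ih _ hu', hgact u hu, smul_smul, pow_succ, Units.val_mul]
  have hgM : g ∈ M := by
    by_contra hc
    refine hu₀ (eq_zero_of_fix h hc hu₀X ?_)
    rw [← f.symm_apply_apply (ρ g u₀), hgact u₀ hu₀X]
    exact hlin _ u₀ hu₀X
  refine ⟨g, hgM, fun j u hu hu0 v hv hv0 => ?_⟩
  obtain ⟨k, hk⟩ := (hU.to_subgroup (AddSubgroup.toSubgroup X)).exists_card_eq
  have hFk : Fintype.card F = p ^ k := hFc.trans hk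
  have hdvd : p ∣ Fintype.card F := by
    rw [hFk]
    refine dvd_pow_self p fun h0 => ?_
    have := Fintype.one_lt_card (α := F)
    rw [h0, pow_zero] at hFk
    omega
  have hpc : p.Coprime (Fintype.card F - 1) := by
    refine (Nat.Coprime.coprime_dvd_left hdvd ?_)
    simpa using Nat.coprime_self_sub_right (m := 1) (n := Fintype.card F) Fintype.card_pos
  obtain ⟨c₁, hc₁⟩ := hline u hu
  obtain ⟨c₂, hc₂⟩ := hline v hv
  have hc₁0 : c₁ ≠ 0 := fun h => hu0 (f.injective (by rw [hc₁, h, zero_smul, map_zero]))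
  have hc₂0 : c₂ ≠ 0 := fun h => hv0 (f.injective (by rw [hc₂, h, zero_smul, map_zero]))
  obtain ⟨d, hd⟩ := (powCoprime (G := Fˣ) (n := p ^ j) (by
    rw [Nat.card_eq_fintype_card, Fintype.card_units]
    exact (hpc.symm.pow_right j))).surjective (Units.mk0 (c₂ / c₁) (div_ne_zero hc₂0 hc₁0))
  obtain ⟨i, hi⟩ := (mem_powers_iff_mem_zpowers (y := d)).mpr (hγ d)
  refine ⟨i, f.injective ?_⟩
  rw [← pow_mul, hgpow _ u hu, mul_comm, pow_mul, show γ ^ i = d from hi,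
    show d ^ p ^ j = Units.mk0 (c₂ / c₁) (div_ne_zero hc₂0 hc₁0) from hd, hc₁, hc₂, smul_smul, Units.val_mk0,
    div_mul_cancel₀ _ hc₁0]

theorem exists_module {V T A P Γ : Subgroup G} [hVn : V.Normal]
    (hVc : ∀ a ∈ V, ∀ b ∈ V, a * b = b * a) (hVp : IsPGroup p V) (hTV : T ≤ V)
    (hA : Member p V A) (hAP : A ≤ P) (hPΓ : P ≤ Γ) (hPK : P ≤ Subgroup.normalizer (T : Set G))
    (hPp : IsPGroup p P) (hidx : ¬ p ∣ P.relIndex Γ)
    (hfixK : ∀ R : Subgroup G, R ≤ Subgroup.normalizer (T : Set G) → IsPGroup p R → ∀ r ∈ R, ∀ t ∈ T, r * t = t * r)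
    (hΓK : ¬ Γ ≤ Subgroup.normalizer (T : Set G))
    (hgen : ∀ x ∈ Γ, x ∉ Subgroup.normalizer (T : Set G) → A ⊔ cm x A = Γ) :
    ∃ (M₀ : Subgroup G) (U : Type) (_ : AddCommGroup U) (_ : Finite U) (ρ : ↥Γ →* AddMonoid.End U)
      (π : ↥M₀ → U) (g : ↥Γ) (hTM : T ≤ M₀) (hMn : ∀ g ∈ Γ, ∀ m ∈ M₀, g * m * g⁻¹ ∈ M₀)
      (_ : ∀ a b : ↥M₀, π (a * b) = π a + π b) (_ : ∀ a, π a⁻¹ = - π a)
      (_ : ∀ (g : ↥Γ) (y : ↥M₀) (h : (g : G) * y * (g : G)⁻¹ ∈ M₀), ρ g (π y) = π ⟨_, h⟩)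
      (_ : ∀ v (hv : v ∈ M₀), π ⟨v, hv⟩ = 0 → ∀ g ∈ Γ, g * v = v * g),
      IsPGroup p (Multiplicative U) ∧ (g : G) ∈ Subgroup.normalizer (T : Set G) ∧
      (∀ t (ht : t ∈ T) (j : ℕ) t' (ht' : t' ∈ T), π ⟨t, hTM ht⟩ ≠ 0 → π ⟨t', hTM ht'⟩ ≠ 0 →
        ∃ i : ℕ, ρ ((g ^ p ^ j) ^ i) (π ⟨t, hTM ht⟩) = π ⟨t', hTM ht'⟩) ∧
      ¬ ∀ t (ht : t ∈ T), π ⟨t, hTM ht⟩ = 0 := by
  classical
  set K := Subgroup.normalizer (T : Set G) with hK
  have hAΓ : A ≤ Γ := hAP.trans hPΓ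
  set M₀ : Subgroup G := Subgroup.closure {y | ∃ g ∈ Γ, ∃ t ∈ T, y = g * t * g⁻¹} with hM₀
  have hTM : T ≤ M₀ := fun t ht => Subgroup.subset_closure ⟨1, Γ.one_mem, t, ht, by simp⟩
  have hMV : M₀ ≤ V := (Subgroup.closure_le V).2 (by
    rintro _ ⟨g, -, t, ht, rfl⟩; exact hVn.conj_mem t (hTV ht) g)
  have hMc : ∀ a ∈ M₀, ∀ b ∈ M₀, a * b = b * a := fun a ha b hb => hVc a (hMV ha) b (hMV hb)
  have hMn : ∀ g ∈ Γ, ∀ m ∈ M₀, g * m * g⁻¹ ∈ M₀ := fun g hg m hm => by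
    have h : M₀ ≤ M₀.comap (MulAut.conj g).toMonoidHom := (Subgroup.closure_le _).2 (by
      rintro _ ⟨k, hk, t, ht, rfl⟩
      exact Subgroup.subset_closure ⟨g * k, Γ.mul_mem hg hk, t, ht, show g * (k * t * k⁻¹) * g⁻¹ = _ by group⟩)
    exact h hm
  -- the section
  obtain ⟨x₀, hx₀, hx₀K⟩ := SetLike.not_le_iff_exists.1 hΓK
  set C₀ := M₀ ⊓ Subgroup.centralizer (Γ : Set G) with hC₀
  have hCK : T ≤ Subgroup.centralizer (Γ : Set G) → False := fun h => hΓK fun g hg =>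
    Subgroup.mem_normalizer_iff.2 fun t => by
      have hfix : ∀ s ∈ T, g * s * g⁻¹ = s := fun s hs => by
        rw [Subgroup.mem_centralizer_iff.1 (h hs) g hg, mul_inv_cancel_right]
      refine ⟨fun ht => (hfix t ht).symm ▸ ht, fun ht => ?_⟩
      have h2 := hfix _ ht
      rw [show t = g * t * g⁻¹ from mul_left_cancel (mul_right_cancel (h2.symm))]
      exact ht
  obtain ⟨N, ⟨hNM, hNn, hCN, hNne⟩, hNmax⟩ := Set.exists_max_image
    {W : Subgroup G | W ≤ M₀ ∧ (∀ g ∈ Γ, ∀ w ∈ W, g * w * g⁻¹ ∈ W) ∧ C₀ ≤ W ∧ W ≠ M₀} (fun W => Nat.card W)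
    (Set.toFinite _) ⟨C₀, inf_le_left, fun g hg w hw => by
      rw [Subgroup.mem_centralizer_iff.1 hw.2 g hg, mul_inv_cancel_right]; exact hw, le_rfl,
      fun e => hCK ((hTM.trans e.ge).trans inf_le_right)⟩
  obtain ⟨U, iU, iU', ρ, π, hπs, hπadd, hπker, hπact⟩ := exists_sectionRep Γ M₀ N hNM hMc hMn hNn
  have hπ1 : π 1 = 0 := (hπker 1).mpr N.one_mem
  have hπinv : ∀ a, π a⁻¹ = - π a := fun a => by rw [eq_neg_iff_add_eq_zero, ← hπadd, inv_mul_cancel, hπ1]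
  let φ : ↥M₀ →* Multiplicative U :=
    { toFun := fun a => Multiplicative.ofAdd (π a)
      map_one' := by rw [hπ1]; rfl
      map_mul' := fun a b => by rw [hπadd]; rfl }
  haveI : Nontrivial U := by
    obtain ⟨m, hm, hmN⟩ : ∃ m ∈ M₀, m ∉ N := by
      by_contra h; push Not at h; exact hNne (le_antisymm hNM h)
    exact ⟨⟨π ⟨m, hm⟩, 0, fun e => hmN ((hπker _).mp e)⟩⟩
  have hmove : ∀ (g : ↥Γ) (y : ↥M₀),
      ρ g (π y) = π y ↔ (g : G) * y * (g : G)⁻¹ * (y : G)⁻¹ ∈ N := fun g y => by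
    rw [hπact g y (hMn g g.2 y y.2), ← sub_eq_zero, sub_eq_add_neg, ← hπinv, ← hπadd, hπker]
    rfl
  have hirr : ∀ W : AddSubgroup U, (∀ g, ∀ v ∈ W, ρ g v ∈ W) → W = ⊥ ∨ W = ⊤ := by
    intro W hW
    let L : Subgroup ↥M₀ := (AddSubgroup.toSubgroup W).comap φ
    have hL : ∀ y, y ∈ L ↔ π y ∈ W := fun y => Iff.rfl
    by_cases hLM : L.map M₀.subtype = M₀
    · refine Or.inr (eq_top_iff.mpr fun u _ => ?_)
      obtain ⟨y, rfl⟩ := hπs u
      obtain ⟨l, hl, e⟩ := hLM.ge y.2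
      rw [← show l = y from Subtype.ext e]; exact hl
    · refine Or.inl (eq_bot_iff.mpr fun u hu => ?_)
      obtain ⟨y, rfl⟩ := hπs u
      have hNL : N ≤ L.map M₀.subtype := fun z hz =>
        ⟨⟨z, hNM hz⟩, (hL _).2 (by rw [(hπker _).mpr hz]; exact W.zero_mem), rfl⟩
      have heq : N = L.map M₀.subtype := Subgroup.eq_of_le_of_card_ge hNL (hNmax _ ⟨Subgroup.map_subtype_le _,
        by
          rintro g hg _ ⟨l, hl, rfl⟩
          exact ⟨⟨_, hMn g hg l l.2⟩, (hL _).2 (by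
            rw [← hπact ⟨g, hg⟩ l (hMn g hg l l.2)]; exact hW _ _ ((hL l).1 hl)), rfl⟩,
        hCN.trans hNL, hLM⟩)
      exact AddSubgroup.mem_bot.mpr ((hπker y).mpr (heq.ge ⟨y, hu, rfl⟩))
  have hPfix : ∀ r ∈ P, ∀ t ∈ T, r * t = t * r := hfixK P hPK hPp
  -- averaging over the cosets of the centralizer
  have hnontriv : ∃ g, ρ g ≠ 1 := by
    by_contra htriv
    push Not at htriv
    refine hNne (le_antisymm hNM ((Subgroup.closure_le N).2 ?_))
    rintro _ ⟨g, hg, t, ht, rfl⟩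
    refine hNn g hg t ?_
    letI : CommGroup ↥M₀ := { (inferInstance : Group ↥M₀) with mul_comm := fun a b => Subtype.ext (hMc a a.2 b b.2) }
    set C : Subgroup ↥Γ := (Subgroup.centralizer ({t} : Set G)).subgroupOf Γ with hCdef
    let f : ↥Γ ⧸ C → ↥M₀ := Quotient.lift
      (fun k : ↥Γ => (⟨k * t * (k : G)⁻¹, hMn k k.2 t (hTM ht)⟩ : ↥M₀)) (fun a b hab => by
        have h : (a⁻¹ * b : ↥Γ) ∈ C := QuotientGroup.leftRel_apply.1 hab
        have h' := Subgroup.mem_centralizer_singleton_iff.1 (Subgroup.mem_subgroupOf.1 h)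
        refine Subtype.ext ?_
        simp only [Subgroup.coe_mul, Subgroup.coe_inv] at h'
        calc (a : G) * t * (a : G)⁻¹ = a * (((a : G)⁻¹ * b) * t * ((a : G)⁻¹ * b)⁻¹) * (a : G)⁻¹ := by
              rw [h', mul_inv_cancel_right]
          _ = (b : G) * t * (b : G)⁻¹ := by group)
    haveI := Fintype.ofFinite (↥Γ ⧸ C)
    set Z : ↥M₀ := ∏ q : ↥Γ ⧸ C, f q with hZ
    have hZc : (Z : G) ∈ Subgroup.centralizer (Γ : Set G) := Subgroup.mem_centralizer_iff.2 fun k hk => by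
      let ck : ↥M₀ →* ↥M₀ :=
        { toFun := fun a => ⟨k * a * k⁻¹, hMn k hk a a.2⟩
          map_one' := Subtype.ext (by simp)
          map_mul' := fun a b => Subtype.ext (show k * (a * b : G) * k⁻¹ = _ * _ by group) }
      have h : ck Z = Z := by
        rw [hZ, map_prod]
        refine Fintype.prod_bijective (fun q => (⟨k, hk⟩ : ↥Γ) • q) (MulAction.bijective _) _ _ fun q => ?_
        induction q using QuotientGroup.induction_on with
        | H a => exact Subtype.ext (show k * ((a : G) * t * (a : G)⁻¹) * k⁻¹ = (k * a) * t * (k * a)⁻¹ by group)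
      exact mul_inv_eq_iff_eq_mul.1 (congrArg Subtype.val h)
    have hZN : π Z = 0 := (hπker Z).mpr (hCN ⟨Z.2, hZc⟩)
    have hsum : π Z = Fintype.card (↥Γ ⧸ C) • π ⟨t, hTM ht⟩ := by
      have e : φ Z = φ ⟨t, hTM ht⟩ ^ Fintype.card (↥Γ ⧸ C) := by
        rw [hZ, map_prod, Finset.prod_congr rfl fun q _ => show φ (f q) = φ ⟨t, hTM ht⟩ from ?_,
          Finset.prod_const, Finset.card_univ]
        induction q using QuotientGroup.induction_on with
        | H a =>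
          show Multiplicative.ofAdd (π _) = Multiplicative.ofAdd (π _)
          refine congrArg Multiplicative.ofAdd ?_
          show π ⟨(a : G) * t * (a : G)⁻¹, hMn a a.2 t (hTM ht)⟩ = π ⟨t, hTM ht⟩
          exact (hπact a ⟨t, hTM ht⟩ (hMn a a.2 t (hTM ht))).symm.trans (DFunLike.congr_fun (htriv a) _)
      exact congrArg Multiplicative.toAdd e
    rw [hsum] at hZN
    refine (hπker ⟨t, hTM ht⟩).mp (AddMonoid.addOrderOf_eq_one_iff.1 ?_)
    obtain ⟨k, hk⟩ := hVp ⟨t, hTV ht⟩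
    refine Nat.eq_one_of_dvd_coprimes (Nat.Coprime.pow_left (m := p) k ?_) ?_ (addOrderOf_dvd_of_nsmul_eq_zero hZN)
    · rw [hp.out.coprime_iff_not_dvd, ← Nat.card_eq_fintype_card]
      refine fun hd => hidx (hd.trans ?_)
      exact Subgroup.index_dvd_of_le fun r hr => Subgroup.mem_subgroupOf.2
        (Subgroup.mem_centralizer_singleton_iff.2 (hPfix r (Subgroup.mem_subgroupOf.1 hr) t ht))
    · refine addOrderOf_dvd_of_nsmul_eq_zero ?_
      have e : φ ⟨t, hTM ht⟩ ^ (p ^ k) = 1 := by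
        rw [← map_pow, show (⟨t, hTM ht⟩ : ↥M₀) ^ (p ^ k) = 1 from Subtype.ext (by simpa using congrArg (fun z : ↥V => (z : G)) hk), map_one]
      exact congrArg Multiplicative.toAdd e
  set A₁ := A.subgroupOf Γ with hA₁
  set M₁ := K.subgroupOf Γ with hM₁
  have hA₁map : A₁.map Γ.subtype = A := Subgroup.map_subgroupOf_eq_of_le hAΓ
  have hpair : Pair ρ A₁ M₁ := by
    refine ⟨fun x hx => ?_, fun a ha => hPK (hAP ha), ⟨⟨x₀, hx₀⟩, hx₀K⟩, fun a ha b hb => ?_, hirr, hnontriv⟩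
    · apply Subgroup.map_injective Γ.subtype_injective
      rw [Subgroup.map_sup, Subgroup.map_map, show Γ.subtype.comp (MulAut.conj x).toMonoidHom =
        (MulAut.conj (x : G)).toMonoidHom.comp Γ.subtype from MonoidHom.ext fun y => rfl, ← Subgroup.map_map,
        hA₁map, ← MonoidHom.range_eq_map, Subgroup.range_subtype]
      exact hgen x x.2 hx
    · refine AddMonoidHom.ext fun u => ?_
      obtain ⟨y, rfl⟩ := hπs u
      show ρ a (ρ b (π y) - π y) - (ρ b (π y) - π y) = 0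
      have hm : (b : G) * y * (b : G)⁻¹ * (y : G)⁻¹ ∈ M₀ := M₀.mul_mem (hMn b b.2 y y.2) (M₀.inv_mem y.2)
      have e1 : ρ b (π y) - π y = π ⟨_, hm⟩ := by
        rw [hπact b y (hMn b b.2 y y.2), sub_eq_add_neg, ← hπinv, ← hπadd]; rfl
      rw [e1, sub_eq_zero, hmove]
      show (a : G) * _ * (a : G)⁻¹ * _ ∈ N
      rw [hA.quad y (hMV y.2) b hb a ha, mul_inv_cancel]
      exact N.one_mem
  -- elements of `A` in every conjugate of `K` centralise `M₀`
  have hker : ∀ a ∈ A₁, a ∈ M₁.normalCore → (a : G) ∈ A ⊓ Subgroup.centralizer (M₀ : Set G) := fun a ha hc => by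
    refine ⟨ha, Subgroup.mem_centralizer_iff.2 fun m hm => ?_⟩
    have hle : M₀ ≤ Subgroup.centralizer ({(a : G)} : Set G) := (Subgroup.closure_le _).2 (by
      rintro _ ⟨g, hg, t, ht, rfl⟩
      refine Subgroup.mem_centralizer_singleton_iff.2 ?_
      have h1 : g⁻¹ * (a : G) * g ∈ K := by
        have h := hc ⟨g⁻¹, Γ.inv_mem hg⟩
        simpa [hM₁, Subgroup.mem_subgroupOf] using h
      have h2 := hfixK (Subgroup.zpowers (g⁻¹ * (a : G) * g)) (Subgroup.zpowers_le.2 h1) ?_ _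
        (Subgroup.mem_zpowers _) t ht
      · calc g * t * g⁻¹ * a = g * (t * (g⁻¹ * a * g)) * g⁻¹ := by group
          _ = g * ((g⁻¹ * a * g) * t) * g⁻¹ := by rw [h2]
          _ = a * (g * t * g⁻¹) := by group
      · have h3 := (hA.pgrp.to_le (Subgroup.zpowers_le.2 (show (a : G) ∈ A from ha))).map
          (MulAut.conj g⁻¹).toMonoidHom
        rw [MonoidHom.map_zpowers] at h3
        rwa [show (MulAut.conj g⁻¹).toMonoidHom (a : G) = g⁻¹ * (a : G) * g from by simp] at h3)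
    exact (Subgroup.mem_centralizer_singleton_iff.1 (hle hm))
  set X := fix ρ A₁ with hX
  set CA := A ⊓ Subgroup.centralizer (M₀ : Set G) with hCA
  set CM := M₀ ⊓ Subgroup.centralizer (A : Set G) with hCM
  set w := Nat.card X with hw
  have hcardA : Nat.card A ≤ Nat.card CA * w := by
    have h := SL2Pair.card_le hpair (A₀ := CA.subgroupOf Γ) (fun a ha hc => hker a ha hc)
    rwa [show Nat.card A₁ = Nat.card A from Nat.card_congr (Subgroup.subgroupOfEquivOfLe hAΓ).toEquiv,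
      show Nat.card ↥(CA.subgroupOf Γ) = Nat.card CA from
        Nat.card_congr (Subgroup.subgroupOfEquivOfLe (inf_le_left.trans hAΓ)).toEquiv] at h
  have hcardM : Nat.card U * Nat.card N = Nat.card M₀ := by
    have h := Subgroup.card_mul_index φ.ker
    rw [Subgroup.index_ker, MonoidHom.range_eq_top.mpr (fun u => ⟨_, congrArg Multiplicative.ofAdd (hπs _).choose_spec⟩),
      Subgroup.card_top] at h
    rw [← h, mul_comm, show φ.ker = N.subgroupOf M₀ from Subgroup.ext fun y => hπker y,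
      Nat.card_congr (Subgroup.subgroupOfEquivOfLe hNM).toEquiv]
    rfl
  have hcardC : Nat.card CM ≤ w * Nat.card ↥(N ⊓ Subgroup.centralizer (A : Set G)) := by
    let f : ↥CM →* Multiplicative U := φ.comp (Subgroup.inclusion inf_le_left)
    have h := Subgroup.card_mul_index f.ker
    rw [Subgroup.index_ker] at h
    have h1 : Nat.card f.range ≤ w := by
      refine Nat.card_le_card_of_injective (fun u => (⟨Multiplicative.toAdd u.1, ?_⟩ : X)) ?_
      · obtain ⟨c, hc⟩ := u.2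
        rw [← hc]
        refine (mem_fix ρ A₁).mpr fun a ha => (hmove a (Subgroup.inclusion inf_le_left c)).mpr ?_
        show (a : G) * c * (a : G)⁻¹ * (c : G)⁻¹ ∈ N
        rw [Subgroup.mem_centralizer_iff.1 c.2.2 a ha]
        simp [N.one_mem]
      · exact fun a b e => Subtype.ext (Multiplicative.toAdd.injective (congrArg (fun z : X => (z : U)) e))
    have h2 : Nat.card f.ker ≤ Nat.card ↥(N ⊓ Subgroup.centralizer (A : Set G)) :=
      Nat.card_le_card_of_injective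
        (fun c => (⟨((c : ↥CM) : G), (hπker _).mp (MonoidHom.mem_ker.mp c.2 : f c.1 = 1), (c : ↥CM).2.2⟩ :
          ↥(N ⊓ Subgroup.centralizer (A : Set G))))
        (fun a b e => Subtype.ext (Subtype.ext (congrArg (fun z : ↥(N ⊓ Subgroup.centralizer (A : Set G)) => (z : G)) e)))
    rw [← h, mul_comm w]
    exact Nat.mul_le_mul h2 h1
  have hsq : Nat.card U = w ^ 2 := card_sq hpair
  have hoff : Nat.card M₀ * Nat.card CA ≤ Nat.card A * Nat.card CM := hA.off M₀ hMV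
  have hwpos : 0 < w := Nat.card_pos
  have hCApos : 0 < Nat.card CA := Nat.card_pos
  have hNpos : 0 < Nat.card N := Nat.card_pos
  have hNCA : Nat.card ↥(N ⊓ Subgroup.centralizer (A : Set G)) ≤ Nat.card N := Subgroup.card_le_of_le inf_le_left
  rw [← hcardM, hsq] at hoff
  have hNfix : N ≤ Subgroup.centralizer (A : Set G) := by
    have h : Nat.card N ≤ Nat.card ↥(N ⊓ Subgroup.centralizer (A : Set G)) := by
      refine Nat.le_of_mul_le_mul_left ?_ (Nat.mul_pos (pow_pos hwpos 2) hCApos)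
      calc w ^ 2 * Nat.card CA * Nat.card N = w ^ 2 * Nat.card N * Nat.card CA := by ring
        _ ≤ Nat.card A * Nat.card CM := hoff
        _ ≤ Nat.card CA * w * (w * Nat.card ↥(N ⊓ Subgroup.centralizer (A : Set G))) :=
          Nat.mul_le_mul hcardA hcardC
        _ = _ := by ring
    exact (Subgroup.eq_of_le_of_card_ge inf_le_left h) ▸ inf_le_right
  have hAeq : Nat.card A = Nat.card CA * w := by
    refine le_antisymm hcardA (Nat.le_of_mul_le_mul_left ?_ (Nat.mul_pos hwpos hNpos))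
    calc w * Nat.card N * (Nat.card CA * w) = w ^ 2 * Nat.card N * Nat.card CA := by ring
      _ ≤ Nat.card A * Nat.card CM := hoff
      _ ≤ Nat.card A * (w * Nat.card N) := Nat.mul_le_mul_left _ (hcardC.trans (Nat.mul_le_mul_left _ hNCA))
      _ = _ := by ring
  have hNΓ : N ≤ Subgroup.centralizer (Γ : Set G) := by
    have key : ∀ v ∈ N, A ⊔ cm x₀ A ≤ Subgroup.centralizer ({v} : Set G) := fun v hv => sup_le
      (fun a ha => Subgroup.mem_centralizer_singleton_iff.2 (Subgroup.mem_centralizer_iff.1 (hNfix hv) a ha))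
      (Local.map_conj_le fun a ha => Subgroup.mem_centralizer_singleton_iff.2 (by
        have hv' : x₀⁻¹ * v * x₀ ∈ N := by simpa using hNn x₀⁻¹ (Γ.inv_mem hx₀) v hv
        have h := Subgroup.mem_centralizer_iff.1 (hNfix hv') a ha
        calc x₀ * a * x₀⁻¹ * v = x₀ * (a * (x₀⁻¹ * v * x₀)) * x₀⁻¹ := by group
          _ = x₀ * ((x₀⁻¹ * v * x₀) * a) * x₀⁻¹ := by rw [h]
          _ = v * (x₀ * a * x₀⁻¹) := by group))
    rw [hgen x₀ hx₀ hx₀K] at key
    exact fun v hv => Subgroup.mem_centralizer_iff.2 fun g hg => Subgroup.mem_centralizer_singleton_iff.1 (key v hv hg)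
  have hπ0 : ∀ v, (hv : v ∈ M₀) → π ⟨v, hv⟩ = 0 → ∀ g ∈ Γ, g * v = v * g := fun v hv h g hg =>
    Subgroup.mem_centralizer_iff.1 (hNΓ ((hπker _).mp h)) g hg
  have hUp : IsPGroup p (Multiplicative U) :=
    (hVp.to_le hMV).of_surjective φ fun u => ⟨_, congrArg Multiplicative.ofAdd (hπs (Multiplicative.toAdd u)).choose_spec⟩
  have hkill : ∀ a : ↥Γ, (a : G) ∈ Subgroup.centralizer (M₀ : Set G) → ρ a = 1 := fun a ha =>
    AddMonoidHom.ext fun u => by
      obtain ⟨y, rfl⟩ := hπs u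
      show ρ a (π y) = π y
      rw [hmove, ← Subgroup.mem_centralizer_iff.1 ha y y.2]
      simp [N.one_mem]
  have hcardker : Nat.card ↥(A₁ ⊓ ρ.ker) * w ≤ Nat.card A₁ := by
    rw [show Nat.card A₁ = Nat.card A from Nat.card_congr (Subgroup.subgroupOfEquivOfLe hAΓ).toEquiv, hAeq]
    refine Nat.mul_le_mul_right _ ?_
    obtain ⟨v, hv⟩ : ∃ v, v ∉ X := by
      by_contra hall
      push Not at hall
      obtain ⟨v, hv⟩ := exists_ne (0 : U)
      exact hv (eq_zero_of_fix hpair (x := ⟨x₀, hx₀⟩) hx₀K (hall v) (hall _))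
    exact Nat.card_le_card_of_injective
      (fun a : ↥(A₁ ⊓ ρ.ker) => (⟨((a : ↥Γ) : G), hker _ a.2.1 (mem_normalCore hpair a.2.1 hv (by
        rw [MonoidHom.mem_ker.mp a.2.2]; rfl))⟩ : ↥CA))
      (fun a b e => Subtype.ext (Subtype.ext (congrArg (fun z : ↥CA => (z : G)) e)))
  obtain ⟨g, hgM, hg⟩ := exists_scalar hpair hUp (fun a ha hc => hkill a (hker a ha hc).2) hcardker
  have hTX : ∀ t (ht : t ∈ T), π ⟨t, hTM ht⟩ ∈ X := fun t ht => (mem_fix ρ A₁).mpr fun a ha => (hmove a ⟨t, hTM ht⟩).mpr (by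
    show (a : G) * t * (a : G)⁻¹ * t⁻¹ ∈ N
    rw [hPfix a (hAP ha) t ht]; simp [N.one_mem])
  exact ⟨M₀, U, iU, iU', ρ, π, g, hTM, hMn, hπadd, hπinv, hπact, hπ0, hUp, hgM, fun t ht j t' ht' h h' =>
    hg j _ (hTX t ht) h _ (hTX t' ht') h',
    fun h => hCK fun t ht => Subgroup.mem_centralizer_iff.2 fun k hk => hπ0 t (hTM ht) (h t ht) k hk⟩

theorem exists_good (hp2 : p ≠ 2) {V T A P Γ : Subgroup G} [hVn : V.Normal]
    (hVc : ∀ a ∈ V, ∀ b ∈ V, a * b = b * a) (hVp : IsPGroup p V) (hTV : T ≤ V)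
    (hA : Member p V A) (hAP : A ≤ P) (hPΓ : P ≤ Γ) (hPK : P ≤ Subgroup.normalizer (T : Set G))
    (hPp : IsPGroup p P) (hidx : ¬ p ∣ P.relIndex Γ)
    (hfixK : ∀ R : Subgroup G, R ≤ Subgroup.normalizer (T : Set G) → IsPGroup p R → ∀ r ∈ R, ∀ t ∈ T, r * t = t * r)
    (hΓK : ¬ Γ ≤ Subgroup.normalizer (T : Set G))
    (hgen : ∀ x ∈ Γ, x ∉ Subgroup.normalizer (T : Set G) → A ⊔ cm x A = Γ) :
    ∃ n, Good p T n := by
  obtain ⟨M₀, U, iU, iU', ρ, π, g, hTM, hMn, hπadd, hπinv, hπact, hπ0, hUp, hgK, htr, hT0⟩ :=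
    exists_module hVc hVp hTV hA hAP hPΓ hPK hPp hidx hfixK hΓK hgen
  obtain ⟨j, hj⟩ := ZJFailure.exists_pow_coprime (p := p) g
  set n : ↥Γ := g ^ p ^ j with hn
  have hnK : (n : G) ∈ Subgroup.normalizer (T : Set G) := by
    rw [hn, Subgroup.coe_pow]; exact pow_mem hgK _
  have hcop : (orderOf (n : G)).Coprime p := by rwa [Subgroup.orderOf_coe]
  have hTc : ∀ a ∈ T, ∀ b ∈ T, a * b = b * a := fun a ha b hb => hVc a (hTV ha) b (hTV hb)
  have hDT := comSub_le hnK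
  have hD1 : ∀ v (hv : v ∈ comSub T (n : G)), π ⟨v, hTM (hDT hv)⟩ = 0 → v = 1 := fun v hv h0 =>
    eq_one_of_fixed hTc (hVp.to_le hTV) hnK hcop hv (mul_inv_eq_iff_eq_mul.2 (hπ0 v _ h0 (n : G) n.2))
  refine ⟨n, hnK, hcop, ?_, fun a ha b hb ha1 hb1 => ?_⟩
  · push Not at hT0
    obtain ⟨t, ht, ht0⟩ := hT0
    refine ⟨t, ht, fun heq => ?_⟩
    have htm : π ⟨t⁻¹, hTM (T.inv_mem ht)⟩ ≠ 0 := by
      rw [show (⟨t⁻¹, hTM (T.inv_mem ht)⟩ : ↥M₀) = (⟨t, hTM ht⟩ : ↥M₀)⁻¹ from rfl, hπinv, neg_ne_zero]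
      exact ht0
    obtain ⟨i, hi⟩ := htr t ht j t⁻¹ (T.inv_mem ht) ht0 htm
    have h1 : ∀ k : ℕ, (n : G) ^ k * t * ((n : G) ^ k)⁻¹ = t := by
      intro k
      induction k with
      | zero => simp
      | succ k ih =>
        calc (n : G) ^ (k + 1) * t * ((n : G) ^ (k + 1))⁻¹
            = (n : G) * ((n : G) ^ k * t * ((n : G) ^ k)⁻¹) * (n : G)⁻¹ := by rw [pow_succ']; group
          _ = t := by rw [ih, heq]
    have hm : ((n ^ i : ↥Γ) : G) * t * ((n ^ i : ↥Γ) : G)⁻¹ = t := by rw [Subgroup.coe_pow]; exact h1 i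
    rw [hπact (n ^ i) ⟨t, hTM ht⟩ (by rw [hm]; exact hTM ht),
      show (⟨t⁻¹, hTM (T.inv_mem ht)⟩ : ↥M₀) = (⟨t, hTM ht⟩ : ↥M₀)⁻¹ from rfl, hπinv] at hi
    have h2 : Multiplicative.ofAdd (π ⟨t, hTM ht⟩) ^ 2 = 1 := by
      rw [pow_two, ← ofAdd_add]
      refine ofAdd_eq_one.mpr ?_
      nth_rewrite 1 [show (⟨t, hTM ht⟩ : ↥M₀) = ⟨_, (hm.symm ▸ hTM ht : _ ∈ M₀)⟩ from Subtype.ext hm.symm]
      rw [hi, neg_add_cancel]
    obtain ⟨k, hk⟩ := hUp (Multiplicative.ofAdd (π ⟨t, hTM ht⟩))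
    refine ht0 (ofAdd_eq_one.mp (orderOf_eq_one_iff.1 (Nat.eq_one_of_dvd_coprimes ?_
      (orderOf_dvd_of_pow_eq_one h2) (orderOf_dvd_of_pow_eq_one hk))))
    exact ((Nat.coprime_primes Nat.prime_two hp.out).mpr (Ne.symm hp2)).pow_right k
  · have ha0 := fun h => ha1 (hD1 a ha h)
    have hb0 := fun h => hb1 (hD1 b hb h)
    obtain ⟨i, hi⟩ := htr a (hDT ha) j b (hDT hb) ha0 hb0
    refine ⟨i, mul_inv_eq_one.1 ?_⟩
    have hn' : (n : G) ^ i * a * ((n : G) ^ i)⁻¹ ∈ comSub T (n : G) := by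
      have h1 : (n : G) ^ i * a * ((n : G) ^ i)⁻¹ * a⁻¹ ∈ comSub T (n : G) :=
        Subgroup.subset_closure ⟨i, a, hDT ha, rfl⟩
      simpa using mul_mem h1 ha
    refine hD1 _ (mul_mem hn' (inv_mem hb)) ?_
    show π (⟨_, hTM (hDT hn')⟩ * (⟨b, hTM (hDT hb)⟩ : ↥M₀)⁻¹) = 0
    rw [hπadd, hπinv, add_neg_eq_zero, ← hi, hπact (n ^ i) ⟨a, hTM (hDT ha)⟩ (by
      rw [Subgroup.coe_pow]; exact hTM (hDT hn'))]
    exact congrArg π (Subtype.ext (by simp))

end CfsgLib.OffenderSL2
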